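import Mathlib
import Groth.Agent.H9Misc.DRingTorDim
import Groth.Agent.H9Misc.DRingTorRestrict
import Groth.Agent.Synt29.TorSyzygy
import Groth.Agent.DiagSmooth.BaseChange

/-!
# Ring maps of finite tor dimension
-/

set_option autoImplicit false
set_option linter.style.haveILetI false
set_option backward.isDefEq.respectTransparency.types false

universe u

open CategoryTheory CategoryTheory.Limits TensorProduct
open Groth.Agent.H9Misc

namespace Groth.Agent.PerfMor

section TorDim

variable {A : Type u} [CommRing A]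

theorem torDimLE_mono {d e : ℕ} (h : d ≤ e) {M : Type u} [AddCommGroup M] [Module A M]
    (hM : DRing.HasTorDimLE A d M) : DRing.HasTorDimLE A e M :=
  fun N _ _ p hp => hM N p (lt_of_le_of_lt h hp)

theorem torDimLE_of_torExactFrom {d : ℕ} {M : Type u} [AddCommGroup M] [Module A M]
    (h : Synt29.TorExactFrom A d M) : DRing.HasTorDimLE A d M := by
  intro N _ _ p hp
  obtain ⟨i, rfl⟩ : ∃ i, p = i + 1 := ⟨p - 1, by omega⟩
  exact ModuleCat.isZero_iff_subsingleton.1
    ((Synt29.torExact_iff M (ProjectiveResolution.of (ModuleCat.of A N)) i).1 (h _ _ i (by omega)))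

/-- The third module of a short exact sequence. -/
theorem torDimLE_third {S : ShortComplex (ModuleCat.{u} A)} (hS : S.ShortExact) {d : ℕ}
    (h₁ : DRing.HasTorDimLE A d S.X₁) (h₂ : DRing.HasTorDimLE A (d + 1) S.X₂) :
    DRing.HasTorDimLE A (d + 1) S.X₃ := by
  intro N _ _ p hp
  obtain ⟨i, rfl⟩ : ∃ i, p = i + 1 := ⟨p - 1, by omega⟩
  exact ModuleCat.isZero_iff_subsingleton.1 (TorBridge.isZero_tor_third S hS (ModuleCat.of A N) i
    (ModuleCat.isZero_iff_subsingleton.2 (h₂ N (i + 1) hp))
    (ModuleCat.isZero_iff_subsingleton.2 (h₁ N i (by omega))))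

theorem torDimLE_of_exact {K F M : Type u} [AddCommGroup K] [Module A K] [AddCommGroup F] [Module A F]
    [AddCommGroup M] [Module A M] (i : K →ₗ[A] F) (q : F →ₗ[A] M) (hi : Function.Injective i)
    (hq : Function.Surjective q) (he : Function.Exact i q) {d : ℕ}
    (h₁ : DRing.HasTorDimLE A d K) (h₂ : DRing.HasTorDimLE A (d + 1) F) : DRing.HasTorDimLE A (d + 1) M := by
  have w : ModuleCat.ofHom i ≫ ModuleCat.ofHom q = 0 :=
    ModuleCat.hom_ext (LinearMap.ext he.apply_apply_eq_zero)
  exact torDimLE_third (S := ShortComplex.mk (ModuleCat.ofHom i) (ModuleCat.ofHom q) w)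
    { exact := (ShortComplex.ShortExact.moduleCat_exact_iff_function_exact _).2 he
      mono_f := (ModuleCat.mono_iff_injective _).2 hi
      epi_g := (ModuleCat.epi_iff_surjective _).2 hq } h₁ h₂

theorem exists_syzygy {d : ℕ} (M : Type u) [AddCommGroup M] [Module A M] :
    ∃ (K : Type u) (_ : AddCommGroup K) (_ : Module A K) (F : Type u) (_ : AddCommGroup F) (_ : Module A F)
      (_ : Module.Flat A F) (i : K →ₗ[A] F) (q : F →ₗ[A] M), Function.Injective i ∧ Function.Surjective q ∧
        Function.Exact i q ∧ (DRing.HasTorDimLE A (d + 1) M → DRing.HasTorDimLE A d K) := by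
  let q : (M →₀ A) →ₗ[A] M := Finsupp.linearCombination A id
  have hq : Function.Surjective q := Finsupp.linearCombination_id_surjective A M
  exact ⟨LinearMap.ker q, inferInstance, inferInstance, M →₀ A, inferInstance, inferInstance, inferInstance,
    (LinearMap.ker q).subtype, q, Subtype.val_injective, hq, LinearMap.exact_subtype_ker_map q,
    fun h => torDimLE_of_torExactFrom (Synt29.torExactFrom_ker q hq (Synt29.torExactFrom_of_hasTorDimLE h))⟩

theorem exact_baseChange (B : Type u) [CommRing B] [Algebra A B] [Module.Flat A B] {K F M : Type u} [AddCommGroup K]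
    [Module A K] [AddCommGroup F] [Module A F] [AddCommGroup M] [Module A M] (i : K →ₗ[A] F) (q : F →ₗ[A] M)
    (h : Function.Exact i q) : Function.Exact (i.baseChange B) (q.baseChange B) :=
  Module.Flat.lTensor_exact B h

end TorDim

section Restrict

variable (A B : Type u) [CommRing A] [CommRing B] [Algebra A B]

/-- Tor dimensions add up under restriction of scalars. -/
theorem torDimLE_restrict {d : ℕ} (hB : DRing.HasTorDimLE A d B) :
    ∀ (e : ℕ) (M : Type u) [AddCommGroup M] [Module A M] [Module B M] [IsScalarTower A B M],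
      DRing.HasTorDimLE B e M → DRing.HasTorDimLE A (d + e) M := by
  intro e
  induction e with
  | zero =>
    intro M _ _ _ _ h
    haveI : Module.Flat B M := (DRingTor.torDimLE_zero_iff (ModuleCat.of B M)).1 h
    exact DRingTor.torDimLE_of_flat hB M
  | succ e ih =>
    intro M _ _ _ _ h
    let q : (M →₀ B) →ₗ[B] M := Finsupp.linearCombination B id
    have hq : Function.Surjective q := Finsupp.linearCombination_id_surjective B M
    let i : LinearMap.ker q →ₗ[B] (M →₀ B) := (LinearMap.ker q).subtype
    have h1 := Synt29.torExactFrom_of_hasTorDimLE h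
    have hK : DRing.HasTorDimLE A (d + e) (LinearMap.ker q) :=
      ih (LinearMap.ker q) (torDimLE_of_torExactFrom (Synt29.torExactFrom_ker q hq h1))
    have hF : DRing.HasTorDimLE A (d + e + 1) (M →₀ B) :=
      torDimLE_mono (by omega) (DRingTor.torDimLE_of_flat hB (M →₀ B))
    exact torDimLE_of_exact (K := LinearMap.ker q) (F := M →₀ B) (M := M) (i.restrictScalars A)
      (q.restrictScalars A) Subtype.val_injective hq (LinearMap.exact_subtype_ker_map q) hK hF

/-- Flat base change of tor dimension. -/
theorem torDimLE_baseChange [Module.Flat A B] :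
    ∀ (d : ℕ) (M : Type u) [AddCommGroup M] [Module A M],
      DRing.HasTorDimLE A d M → DRing.HasTorDimLE B d (B ⊗[A] M) := by
  intro d
  induction d with
  | zero =>
    intro M _ _ h
    haveI : Module.Flat A M := (DRingTor.torDimLE_zero_iff (ModuleCat.of A M)).1 h
    exact (DRingTor.torDimLE_zero_iff (ModuleCat.of B (B ⊗[A] M))).2 inferInstance
  | succ d ih =>
    intro M _ _ h
    obtain ⟨K, _, _, F, _, _, _, i, q, hi, hq, he, hd⟩ := exists_syzygy (d := d) (A := A) M
    exact torDimLE_of_exact (i.baseChange B) (q.baseChange B)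
      (Module.Flat.lTensor_preserves_injective_linearMap (M := B) i hi)
      (LinearMap.lTensor_surjective B hq) (exact_baseChange B i q he) (ih K (hd h))
      (torDimLE_mono (Nat.zero_le _) ((DRingTor.torDimLE_zero_iff (ModuleCat.of B (B ⊗[A] F))).2 inferInstance))

/-- Descent of tor dimension along a faithfully flat base change. -/
theorem torDimLE_of_baseChange [Module.FaithfullyFlat A B] :
    ∀ (d : ℕ) (M : Type u) [AddCommGroup M] [Module A M],
      DRing.HasTorDimLE B d (B ⊗[A] M) → DRing.HasTorDimLE A d M := by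
  intro d
  induction d with
  | zero =>
    intro M _ _ h
    haveI : Module.Flat B (B ⊗[A] M) := (DRingTor.torDimLE_zero_iff (ModuleCat.of B (B ⊗[A] M))).1 h
    exact (DRingTor.torDimLE_zero_iff (ModuleCat.of A M)).2 (Module.Flat.of_flat_tensorProduct A M B)
  | succ d ih =>
    intro M _ _ h
    obtain ⟨K, _, _, F, _, _, _, i, q, hi, hq, he, -⟩ := exists_syzygy (d := d) (A := A) M
    have hi' : Function.Injective (i.baseChange B) :=
      Module.Flat.lTensor_preserves_injective_linearMap (M := B) i hi
    have he' := exact_baseChange B i q he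
    have hK : DRing.HasTorDimLE B d (LinearMap.ker (q.baseChange B)) :=
      torDimLE_of_torExactFrom (Synt29.torExactFrom_ker (q.baseChange B) (LinearMap.lTensor_surjective B hq)
        (Synt29.torExactFrom_of_hasTorDimLE h))
    have hK' := ih K (DiagSmooth.torDimLE_of_equiv
      ((LinearEquiv.ofInjective (i.baseChange B) hi').trans (LinearEquiv.ofEq _ _ (LinearMap.exact_iff.1 he').symm)).symm hK)
    exact torDimLE_of_exact i q hi hq he hK'
      (torDimLE_mono (Nat.zero_le _) ((DRingTor.torDimLE_zero_iff (ModuleCat.of A F)).2 inferInstance))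

variable {A B}

/-- The two ways of tensoring with a module over an algebra. -/
theorem exact_baseChange_lTensor_iff (F : Type u) [AddCommGroup F] [Module A F] [Module B F] [IsScalarTower A B F]
    {X Y Z : Type u} [AddCommGroup X] [AddCommGroup Y] [AddCommGroup Z] [Module A X] [Module A Y] [Module A Z]
    (f : X →ₗ[A] Y) (g : Y →ₗ[A] Z) :
    Function.Exact (f.lTensor F) (g.lTensor F) ↔
      Function.Exact ((f.baseChange B).lTensor F) ((g.baseChange B).lTensor F) := by
  have key : ∀ {V W : Type u} [AddCommGroup V] [AddCommGroup W] [Module A V] [Module A W] (k : V →ₗ[A] W)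
      (x : F ⊗[B] (B ⊗[A] V)), k.lTensor F (AlgebraTensorModule.cancelBaseChange A B B F V x) =
        AlgebraTensorModule.cancelBaseChange A B B F W ((k.baseChange B).lTensor F x) := fun {V W} _ _ _ _ k x => by
    induction x using TensorProduct.induction_on with
    | zero => simp
    | add p q hp hq => simp only [map_add] at hp hq ⊢; rw [hp, hq]
    | tmul x y =>
      induction y using TensorProduct.induction_on with
      | zero => simp
      | add p q hp hq => simp only [TensorProduct.tmul_add, map_add] at hp hq ⊢; rw [hp, hq]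
      | tmul b z => simp
  exact (Function.Exact.iff_of_ladder_linearEquiv
    (e₁ := (AlgebraTensorModule.cancelBaseChange A B B F X).restrictScalars A)
    (e₂ := (AlgebraTensorModule.cancelBaseChange A B B F Y).restrictScalars A)
    (e₃ := (AlgebraTensorModule.cancelBaseChange A B B F Z).restrictScalars A)
    (f₁₂ := ((f.baseChange B).lTensor F).restrictScalars A)
    (f₂₃ := ((g.baseChange B).lTensor F).restrictScalars A)
    (LinearMap.ext fun x => key f x) (LinearMap.ext fun x => key g x))

/-- Tor dimension of an algebra is local on its spectrum. -/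
theorem torDimLE_of_span {s : Set B} (hs : Ideal.span s = ⊤) {d : ℕ}
    (h : ∀ g ∈ s, DRing.HasTorDimLE A d (Localization.Away g)) : DRing.HasTorDimLE A d B := by
  refine torDimLE_of_torExactFrom fun N Q i hi => ?_
  let f' := (Q.complex.d (i + 2) (i + 1)).hom.baseChange B
  let g' := (Q.complex.d (i + 1) i).hom.baseChange B
  have hzero : ∀ x, g' (f' x) = 0 := fun x => by
    simp only [f', g', LinearMap.baseChange_eq_ltensor, ← LinearMap.lTensor_comp_apply, ← ModuleCat.hom_comp,
      Q.complex.d_comp_d, ModuleCat.hom_zero, LinearMap.lTensor_zero, LinearMap.zero_apply]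
  show Function.Exact f' g'
  intro x
  refine ⟨fun hx => ?_, fun ⟨y, hy⟩ => hy ▸ hzero y⟩
  let c := (LinearMap.range f').mkQ x
  let I : Ideal B := (⊥ : Submodule B _).colon {c}
  have hI : I.radical = ⊤ := top_le_iff.1 (hs.ge.trans (Ideal.span_le.2 fun g hg => by
    let L := Localization.Away g
    have hex := (exact_baseChange_lTensor_iff (B := B) L (Q.complex.d (i + 2) (i + 1)).hom
      (Q.complex.d (i + 1) i).hom).1 (Synt29.torExactFrom_of_hasTorDimLE (h g hg) N Q i hi)
    obtain ⟨y, hy⟩ := (hex (1 ⊗ₜ[B] x)).1 (by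
      rw [LinearMap.lTensor_tmul]
      exact (congrArg (fun z => (1 : L) ⊗ₜ[B] z) hx).trans (tmul_zero _ _))
    have h0 : (1 : L) ⊗ₜ[B] c = 0 := by
      have hcomp : (LinearMap.range f').mkQ ∘ₗ f' = 0 := LinearMap.range_mkQ_comp f'
      have := congrArg ((LinearMap.range f').mkQ.lTensor L) hy
      rw [← LinearMap.lTensor_comp_apply, hcomp, LinearMap.lTensor_zero, LinearMap.zero_apply,
        LinearMap.lTensor_tmul] at this
      exact this.symm
    haveI : IsLocalizedModule (Submonoid.powers g) (TensorProduct.mk B L ((B ⊗[A] Q.complex.X (i + 1)) ⧸ LinearMap.range f') 1) :=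
      (isLocalizedModule_iff_isBaseChange (Submonoid.powers g) L _).2 (TensorProduct.isBaseChange B _ L)
    obtain ⟨⟨_, n, rfl⟩, hn⟩ := (IsLocalizedModule.eq_zero_iff (Submonoid.powers g)
      (TensorProduct.mk B L _ 1)).1 h0
    exact ⟨n, Submodule.mem_colon_singleton.2 ((Submodule.mem_bot _).2 hn)⟩))
  have h1 : (1 : B) ∈ I := by rw [Ideal.radical_eq_top.1 hI]; trivial
  have : c = 0 := by simpa using (Submodule.mem_bot _).1 (Submodule.mem_colon_singleton.1 h1)
  exact (Submodule.Quotient.mk_eq_zero _).1 this

/-- Tor dimension descends along faithfully flat extensions of the algebra. -/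
theorem torDimLE_of_faithfullyFlat (C : Type u) [CommRing C] [Algebra A C] [Algebra B C] [IsScalarTower A B C]
    [Module.FaithfullyFlat B C] {d : ℕ} (h : DRing.HasTorDimLE A d C) : DRing.HasTorDimLE A d B := by
  refine torDimLE_of_torExactFrom fun N Q i hi => ?_
  exact Module.FaithfullyFlat.lTensor_reflects_exact B C _ _
    ((exact_baseChange_lTensor_iff (B := B) C _ _).1 (Synt29.torExactFrom_of_hasTorDimLE h N Q i hi))

end Restrict

/-- `φ` has finite tor dimension. -/
def Ftd {A B : Type u} [CommRing A] [CommRing B] (φ : A →+* B) : Prop :=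
  ∃ d : ℕ, letI := φ.toAlgebra; DRing.HasTorDimLE A d B

variable {A B C : Type u} [CommRing A] [CommRing B] [CommRing C]

theorem ftd_algebraMap_iff [i : Algebra A B] : Ftd (algebraMap A B) ↔ DRing.HasFiniteTorDim A B := by
  have : (algebraMap A B).toAlgebra = i := Algebra.algebra_ext _ _ fun _ => rfl
  unfold Ftd DRing.HasFiniteTorDim
  rw [this]

theorem Ftd.comp {φ : A →+* B} {χ : B →+* C} (h₁ : Ftd φ) (h₂ : Ftd χ) : Ftd (χ.comp φ) := by
  obtain ⟨d, hd⟩ := h₁
  obtain ⟨e, he⟩ := h₂
  letI := φ.toAlgebra
  letI := χ.toAlgebra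
  letI := (χ.comp φ).toAlgebra
  haveI : IsScalarTower A B C := .of_algebraMap_eq fun _ => rfl
  exact ⟨d + e, torDimLE_restrict A B hd e C he⟩

theorem Ftd.of_flat {φ : A →+* B} (h : φ.Flat) : Ftd φ := by
  letI := φ.toAlgebra
  haveI : Module.Flat A B := h
  exact ⟨0, (DRingTor.torDimLE_zero_iff (ModuleCat.of A B)).2 inferInstance⟩

theorem Ftd.pushout {A' B' : Type u} [CommRing A'] [CommRing B'] [Algebra A B] [Algebra A A'] [Module.Flat A A']
    [Algebra A' B'] [Algebra B B'] [Algebra A B'] [IsScalarTower A A' B'] [IsScalarTower A B B']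
    [Algebra.IsPushout A A' B B'] (h : Ftd (algebraMap A B)) : Ftd (algebraMap A' B') := by
  rw [ftd_algebraMap_iff] at h ⊢
  obtain ⟨d, hd⟩ := h
  exact ⟨d, DiagSmooth.torDimLE_of_equiv (Algebra.IsPushout.equiv A A' B B').toLinearEquiv
    (torDimLE_baseChange A A' d B hd)⟩

theorem Ftd.of_pushout {A' B' : Type u} [CommRing A'] [CommRing B'] [Algebra A B] [Algebra A A']
    [Module.FaithfullyFlat A A'] [Algebra A' B'] [Algebra B B'] [Algebra A B'] [IsScalarTower A A' B']
    [IsScalarTower A B B'] [Algebra.IsPushout A A' B B'] (h : Ftd (algebraMap A' B')) : Ftd (algebraMap A B) := by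
  rw [ftd_algebraMap_iff] at h ⊢
  obtain ⟨d, hd⟩ := h
  exact ⟨d, torDimLE_of_baseChange A A' d B
    (DiagSmooth.torDimLE_of_equiv (Algebra.IsPushout.equiv A A' B B').toLinearEquiv.symm hd)⟩

theorem Ftd.of_comp_faithfullyFlat {φ : A →+* B} {χ : B →+* C} (hχ : χ.FaithfullyFlat) (h : Ftd (χ.comp φ)) :
    Ftd φ := by
  obtain ⟨d, hd⟩ := h
  letI := φ.toAlgebra
  letI := χ.toAlgebra
  letI := (χ.comp φ).toAlgebra
  haveI : IsScalarTower A B C := .of_algebraMap_eq fun _ => rfl
  haveI : Module.FaithfullyFlat B C := hχ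
  exact ⟨d, torDimLE_of_faithfullyFlat (B := B) C hd⟩

theorem Ftd.ofLocalizationSpanTarget : RingHom.OfLocalizationSpanTarget @Ftd := by
  rw [RingHom.ofLocalizationSpanTarget_iff_finite]
  intro R S _ _ f s hs h
  letI := f.toAlgebra
  have h' : ∀ r : s, DRing.HasFiniteTorDim R (Localization.Away (r : S)) := fun r => by
    have := h r
    rwa [show (algebraMap S (Localization.Away (r : S))).comp f = algebraMap R (Localization.Away (r : S)) from
      (IsScalarTower.algebraMap_eq R S (Localization.Away (r : S))).symm, ftd_algebraMap_iff] at this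
  choose d hd using h'
  exact ⟨Finset.univ.sup d, torDimLE_of_span (A := R) hs fun g hg =>
    torDimLE_mono (Finset.le_sup (Finset.mem_univ (⟨g, hg⟩ : s))) (hd ⟨g, hg⟩)⟩

theorem Ftd.holdsForLocalizationAway : RingHom.HoldsForLocalizationAway @Ftd := by
  intro R S _ _ _ r _
  exact Ftd.of_flat (RingHom.flat_algebraMap_iff.2 (IsLocalization.flat S (Submonoid.powers r)))

theorem Ftd.stableUnderComposition : RingHom.StableUnderComposition @Ftd :=
  fun _ _ _ _ _ _ _ _ hf hg => hf.comp hg

theorem Ftd.localizationAwayPreserves : RingHom.LocalizationAwayPreserves @Ftd := by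
  intro R S _ _ f r R' S' _ _ _ _ _ _ hf
  have h : Ftd ((algebraMap S S').comp f) := hf.comp (Ftd.holdsForLocalizationAway S' (f r))
  set g := IsLocalization.Away.map R' S' f r with hg
  have hc : g.comp (algebraMap R R') = (algebraMap S S').comp f := by
    rw [hg, IsLocalization.Away.map, IsLocalization.map_comp]
  rw [← hc] at h
  obtain ⟨d, hd⟩ := h
  letI := g.toAlgebra
  letI := (g.comp (algebraMap R R')).toAlgebra
  haveI : IsScalarTower R R' S' := .of_algebraMap_eq fun _ => rfl
  haveI : Module.Flat R R' := IsLocalization.flat R' (Submonoid.powers r)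
  exact ⟨d, DiagSmooth.torDimLE_of_equiv
    (IsLocalization.moduleLid (Submonoid.powers r) R' S') (torDimLE_baseChange R R' d S' hd)⟩

theorem Ftd.propertyIsLocal : RingHom.PropertyIsLocal @Ftd :=
  ⟨localizationAwayPreserves, ofLocalizationSpanTarget,
    ofLocalizationSpanTarget.ofLocalizationSpan
      (stableUnderComposition.stableUnderCompositionWithLocalizationAway holdsForLocalizationAway).left,
    (stableUnderComposition.stableUnderCompositionWithLocalizationAway holdsForLocalizationAway).right⟩

end Groth.Agent.PerfMor
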