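import Mathlib
import Groth.Agent.PerfMor.Ftd
import Groth.Agent.PCMor.Ring
import Groth.Agent.H9Misc.DRingPCDescent
import Groth.Agent.KRegLib.BaseChange

/-!
# Pseudo-coherent ring maps descend along faithfully flat ring maps
-/

set_option autoImplicit false
set_option linter.style.haveILetI false
set_option backward.isDefEq.respectTransparency.types false

universe u

open CategoryTheory CategoryTheory.Limits TensorProduct MvPolynomial
open Groth.Agent.H9Misc

attribute [local instance] HasDerivedCategory.standard MvPolynomial.algebraMvPolynomial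

namespace Groth.Agent.PerfMor

/-- Pseudo-coherence of modules descends along faithfully flat ring maps. -/
theorem pc'_of_baseChange {R R' : Type u} [CommRing R] [CommRing R'] [i : Algebra R R'] [Module.FaithfullyFlat R R']
    (M : Type u) [AddCommGroup M] [Module R M] (h : DRing.IsPseudoCoherentModule' R' (R' ⊗[R] M)) :
    DRing.IsPseudoCoherentModule' R M := by
  refine (DRingPC.pc'_iff _).2 fun m => ?_
  let Mc := ModuleCat.of R M
  refine DRingPC.of_iso ((DerivedCategory.singleFunctorIsoCompQ (ModuleCat.{u} R) 0).app Mc).symm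
    (DRingPCDescent.pc_descent (R' := R') ((HomologicalComplex.single _ (ComplexShape.up ℤ) 0).obj Mc) m ?_)
  have h' : DRing.IsPseudoCoherent R' m (Dual.inD R' ((ModuleCat.extendScalars.{u, u, u} (algebraMap R R')).obj Mc)) := by
    have h2 : DRing.IsPseudoCoherent R' m (Dual.inD R' (R' ⊗[R] M)) := (DRingPC.pc'_iff _).1 h m
    have he : (algebraMap R R').toAlgebra = i := Algebra.algebra_ext _ _ fun _ => rfl
    revert h2 he
    generalize algebraMap R R' = φ
    intro h2 he
    subst he
    exact h2
  exact DRingPC.of_iso ((DerivedCategory.singleFunctorIsoCompQ (ModuleCat.{u} R') 0).app _ ≪≫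
    DerivedCategory.Q.mapIso ((HomologicalComplex.singleMapHomologicalComplex
      (ModuleCat.extendScalars.{u, u, u} (algebraMap R R')) (ComplexShape.up ℤ) 0).app Mc).symm) h'

/-- Pseudo-coherent ring maps descend. -/
theorem q_of_pushout {A A' B B' : Type u} [CommRing A] [CommRing A'] [CommRing B] [CommRing B'] [Algebra A B]
    [Algebra A A'] [Module.FaithfullyFlat A A'] [Algebra A' B'] [Algebra B B'] [Algebra A B']
    [IsScalarTower A A' B'] [IsScalarTower A B B'] [Algebra.IsPushout A A' B B']
    (h : PCMor.Q (algebraMap A' B')) : PCMor.Q (algebraMap A B) := by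
  let e := Algebra.IsPushout.equiv A A' B B'
  haveI : Algebra.FiniteType A' B' := RingHom.finiteType_algebraMap.1 h.finiteType
  haveI : Algebra.FiniteType A' (A' ⊗[A] B) := Algebra.FiniteType.equiv inferInstance e.symm
  haveI : Algebra.FiniteType A B := Algebra.FiniteType.of_finiteType_tensorProduct_of_faithfullyFlat A'
  obtain ⟨n, f, hf⟩ := Algebra.FiniteType.iff_quotient_mvPolynomial''.1 (inferInstance : Algebra.FiniteType A B)
  obtain ⟨g, hg, hgf, -⟩ := KRegLib.exists_baseChange_presentation (L := A') (B' := B') f hf
  let P := MvPolynomial (Fin n) A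
  let P' := MvPolynomial (Fin n) A'
  haveI : Module.FaithfullyFlat P P' := by
    haveI : Algebra.IsPushout A A' P P' := Algebra.IsPushout.symm inferInstance
    exact (RingHom.faithfullyFlat_algebraMap_iff).1 (RingHom.FaithfullyFlat.isStableUnderBaseChange A A' P
      P' ((RingHom.faithfullyFlat_algebraMap_iff).2 inferInstance))
  letI := f.toRingHom.toAlgebra
  letI := g.toRingHom.toAlgebra
  letI : Algebra P B' := ((algebraMap B B').comp f.toRingHom).toAlgebra
  haveI : IsScalarTower A P B := .of_algebraMap_eq fun a => (f.commutes a).symm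
  haveI : IsScalarTower A' P' B' := .of_algebraMap_eq fun a => (g.commutes a).symm
  haveI : IsScalarTower P B B' := .of_algebraMap_eq fun _ => rfl
  haveI : IsScalarTower P P' B' := .of_algebraMap_eq fun x => (hgf x).symm
  haveI : IsScalarTower A P B' := .of_algebraMap_eq fun a =>
    (IsScalarTower.algebraMap_apply A B B' a).trans (congrArg (algebraMap B B') (f.commutes a).symm)
  haveI : IsScalarTower A P P' := .of_algebraMap_eq fun a => (MvPolynomial.map_C _ a).symm
  haveI : IsScalarTower A P' B' := IsScalarTower.of_algebraMap_eq fun a => by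
    rw [IsScalarTower.algebraMap_apply A A' B', IsScalarTower.algebraMap_apply A A' P',
      ← IsScalarTower.algebraMap_apply A' P' B']
  haveI hP : Algebra.IsPushout P P' B B' :=
    ((Algebra.IsPushout.comp_iff (R := A) (S := P) (R' := A') (S' := P') (T := B) (T' := B')).1
      ‹Algebra.IsPushout A A' B B'›.symm).symm
  have h1 : DRingRelPC.PCHom (algebraMap P' B') := h.pcHom g.toRingHom hg (RingHom.ext g.commutes)
  refine ⟨n, f.toRingHom, RingHom.ext f.commutes, hf, ?_⟩
  show DRingRelPC.PCHom (algebraMap P B)
  refine PCMor.pcHom_iff.2 (pc'_of_baseChange (R' := P') B ?_)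
  exact DRingPC.of_iso' ((DerivedCategory.singleFunctor (ModuleCat.{u} P') 0).mapIso
    (Algebra.IsPushout.equiv P P' B B').symm.toLinearEquiv.toModuleIso) (PCMor.pcHom_iff.1 h1)

end Groth.Agent.PerfMor
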