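import Mathlib
import Groth.Agent.PerfMor.Ftd
import Groth.Agent.PCMor.Ring
import Groth.Agent.Triage.NoethPC
import Groth.Agent.SrcDescent.FlatModelAlg

/-!
# Flat finitely presented ring maps are pseudo-coherent
-/

set_option autoImplicit false
set_option linter.style.haveILetI false
set_option backward.isDefEq.respectTransparency.types false

universe u

open CategoryTheory CategoryTheory.Limits TensorProduct MvPolynomial
open Groth.Agent.H9Misc

attribute [local instance] HasDerivedCategory.standard

namespace Groth.Agent.PerfMor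

theorem flat_ker {R : Type u} [CommRing R] {F M : Type u} [AddCommGroup F] [Module R F] [AddCommGroup M]
    [Module R M] [Module.Flat R F] [Module.Flat R M] (q : F →ₗ[R] M) (hq : Function.Surjective q) :
    Module.Flat R (LinearMap.ker q) :=
  Synt29.flat_of_torExactFrom_zero (Synt29.torExactFrom_ker q hq (Synt29.torExactFrom_of_hasTorDimLE
    (torDimLE_mono (Nat.zero_le 1) ((DRingTor.torDimLE_zero_iff (ModuleCat.of R M)).2 inferInstance))))

theorem pc_of_exact {P : Type u} [CommRing P] {K F M : Type u} [AddCommGroup K] [Module P K] [AddCommGroup F]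
    [Module P F] [AddCommGroup M] [Module P M] (i : K →ₗ[P] F) (q : F →ₗ[P] M) (hi : Function.Injective i)
    (hq : Function.Surjective q) (he : Function.Exact i q) (m : ℤ)
    (hK : DRing.IsPseudoCoherentModule P (m + 1) K) (hF : DRing.IsPseudoCoherentModule P m F) :
    DRing.IsPseudoCoherentModule P m M := by
  have w : ModuleCat.ofHom i ≫ ModuleCat.ofHom q = 0 :=
    ModuleCat.hom_ext (LinearMap.ext he.apply_apply_eq_zero)
  have hS : (ShortComplex.mk (ModuleCat.ofHom i) (ModuleCat.ofHom q) w).ShortExact :=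
    { exact := (ShortComplex.ShortExact.moduleCat_exact_iff_function_exact _).2 he
      mono_f := (ModuleCat.mono_iff_injective _).2 hi
      epi_g := (ModuleCat.epi_iff_surjective _).2 hq }
  exact (Groth.Agent.S2067.result hS.singleTriangle hS.singleTriangle_distinguished m).1 hK hF

section BaseChange

variable {R A P₁ P : Type u} [CommRing R] [CommRing A] [CommRing P₁] [CommRing P] [Algebra R A] [Algebra R P₁]
  [Algebra A P] [Algebra P₁ P] [Algebra R P] [IsScalarTower R A P] [IsScalarTower R P₁ P]
  [Algebra.IsPushout R A P₁ P]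

theorem injective_baseChange {K F : Type u} [AddCommGroup K] [Module P₁ K] [Module R K] [IsScalarTower R P₁ K]
    [AddCommGroup F] [Module P₁ F] [Module R F] [IsScalarTower R P₁ F] (i : K →ₗ[P₁] F)
    (h : Function.Injective ((i.restrictScalars R).lTensor A)) : Function.Injective (i.baseChange P) := by
  let eK := Algebra.IsPushout.cancelBaseChange R A P₁ P K
  let eF := Algebra.IsPushout.cancelBaseChange R A P₁ P F
  have hcomm : ∀ x, i.baseChange P (eK.symm x) = eF.symm ((i.restrictScalars R).lTensor A x) := fun x => by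
    induction x with
    | zero => simp
    | add x y hx hy => simp only [map_add, hx, hy]
    | tmul a m => simp [eK, eF]
  intro x y hxy
  rw [← eK.symm_apply_apply x, ← eK.symm_apply_apply y, hcomm, hcomm] at hxy
  exact eK.injective (h (eF.symm.injective hxy))

end BaseChange

theorem pc_baseChange_of_flat {R : Type u} (A : Type u) {P₁ P : Type u} [CommRing R] [CommRing A] [CommRing P₁] [CommRing P] [Algebra R A]
    [Algebra R P₁] [Algebra A P] [Algebra P₁ P] [Algebra R P] [IsScalarTower R A P] [IsScalarTower R P₁ P]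
    [Algebra.IsPushout R A P₁ P]
    [IsNoetherianRing P₁] : ∀ (k : ℕ) (M : Type u) [AddCommGroup M] [Module P₁ M]
    [Module R M] [IsScalarTower R P₁ M] [Module.Finite P₁ M] [Module.Flat R M] [Module.Flat R P₁],
      DRing.IsPseudoCoherentModule P (-(k : ℤ)) (P ⊗[P₁] M) := by
  intro k
  induction k with
  | zero =>
    intro M _ _ _ _ _ _ _
    exact_mod_cast DRingPC.pc_zero_of_finite (A := P) (P ⊗[P₁] M)
  | succ k ih =>
    intro M _ _ _ _ _ _ _
    obtain ⟨n, q, hq⟩ := Module.Finite.exists_fin' P₁ M
    let K := LinearMap.ker q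
    let i : K →ₗ[P₁] (Fin n → P₁) := K.subtype
    have he : Function.Exact i q := LinearMap.exact_subtype_ker_map q
    haveI : Module.Finite P₁ K := Module.Finite.iff_fg.2 (IsNoetherian.noetherian _)
    haveI : Module.Flat R K := flat_ker (q.restrictScalars R) hq
    have hinj : Function.Injective ((i.restrictScalars R).lTensor A) :=
      LinearMap.lTensor_injective_of_exact_of_flat (q.restrictScalars R) hq (i.restrictScalars R)
        Subtype.val_injective he A
    refine pc_of_exact (i.baseChange P) (q.baseChange P) (injective_baseChange (A := A) (R := R) i hinj)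
      (LinearMap.lTensor_surjective P hq) (lTensor_exact P he hq) _ ?_
      (Triage.NoethPC.pc_of_free (A := P) (P ⊗[P₁] (Fin n → P₁)) _)
    have := ih K
    rwa [show (-((k + 1 : ℕ) : ℤ) + 1) = -(k : ℤ) by push_cast; ring]

/-- Tor independent base change of a module. -/
theorem pc'_baseChange_of_flat {R : Type u} (A : Type u) {P₁ P : Type u} [CommRing R] [CommRing A] [CommRing P₁] [CommRing P] [Algebra R A]
    [Algebra R P₁] [Algebra A P] [Algebra P₁ P] [Algebra R P] [IsScalarTower R A P] [IsScalarTower R P₁ P]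
    [Algebra.IsPushout R A P₁ P]
    [IsNoetherianRing P₁] [Module.Flat R P₁] (M : Type u) [AddCommGroup M] [Module P₁ M]
    [Module R M] [IsScalarTower R P₁ M] [Module.Finite P₁ M] [Module.Flat R M] :
    DRing.IsPseudoCoherentModule' P (P ⊗[P₁] M) := by
  refine (DRingPC.pc'_iff _).2 fun m => DRingPC.mono (m := -((-m).toNat : ℤ)) (by omega) ?_
  exact pc_baseChange_of_flat (R := R) A (-m).toNat M

/-- A flat finitely presented algebra is pseudo-coherent. -/
theorem q_of_flat_fp (A B : Type u) [CommRing A] [CommRing B] [Algebra A B] [Module.Flat A B]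
    [Algebra.FinitePresentation A B] : PCMor.Q (algebraMap A B) := by
  obtain ⟨A₁, B₁, _, _, hA₁, hflat, hfp, ⟨e⟩⟩ := SrcDescent.exists_flat_model A B
  haveI : Algebra.FiniteType ℤ A₁ := (Subalgebra.fg_iff_finiteType A₁).1 hA₁
  haveI : IsNoetherianRing A₁ := Algebra.FiniteType.isNoetherianRing ℤ A₁
  obtain ⟨n, φ₁, hφ₁⟩ := Algebra.FiniteType.iff_quotient_mvPolynomial''.1 (inferInstance : Algebra.FiniteType A₁ B₁)
  let P₁ := MvPolynomial (Fin n) A₁
  let P := MvPolynomial (Fin n) A
  letI := MvPolynomial.algebraMvPolynomial (R := A₁) (S := A) (σ := Fin n)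
  letI := φ₁.toRingHom.toAlgebra
  haveI : IsScalarTower A₁ P₁ B₁ := .of_algebraMap_eq fun a => (φ₁.commutes a).symm
  haveI : Module.Finite P₁ B₁ := Module.Finite.of_surjective (Algebra.linearMap P₁ B₁) hφ₁
  haveI : IsScalarTower A₁ A P := IsScalarTower.of_algebraMap_eq fun a => rfl
  haveI : IsScalarTower A₁ P₁ P := IsScalarTower.of_algebraMap_eq fun a => by
    exact (MvPolynomial.map_C (algebraMap A₁ A) a).symm
  haveI : Module.Flat A₁ P₁ := Module.Flat.of_free (R := A₁) (M := P₁)
  have h1 : DRing.IsPseudoCoherentModule' P (P ⊗[P₁] B₁) := pc'_baseChange_of_flat (R := A₁) A B₁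
  have h2 : PCMor.Q (algebraMap A (A ⊗[A₁] B₁)) := by
    let eB : P ⊗[P₁] B₁ ≃ₐ[A] A ⊗[A₁] B₁ := Algebra.IsPushout.cancelBaseChangeAlg A₁ A P₁ P B₁
    refine ⟨n, eB.toAlgHom.toRingHom.comp (algebraMap P (P ⊗[P₁] B₁)), RingHom.ext fun a => ?_, ?_, ?_⟩
    · exact (congrArg eB (IsScalarTower.algebraMap_apply A P (P ⊗[P₁] B₁) a).symm).trans (eB.commutes a)
    · refine eB.surjective.comp fun z => ?_
      induction z with
      | zero => exact ⟨0, map_zero _⟩
      | add x y hx hy =>
        obtain ⟨p, hp⟩ := hx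
        obtain ⟨q, hq⟩ := hy
        exact ⟨p + q, by rw [map_add, hp, hq]⟩
      | tmul p b =>
        obtain ⟨r, rfl⟩ := hφ₁ b
        refine ⟨p * algebraMap P₁ P r, ?_⟩
        show (p * algebraMap P₁ P r) ⊗ₜ[P₁] (1 : B₁) = p ⊗ₜ[P₁] φ₁ r
        rw [show φ₁ r = r • (1 : B₁) from (mul_one _).symm.trans (Algebra.smul_def r (1 : B₁)).symm, tmul_smul,
          TensorProduct.smul_tmul', Algebra.smul_def, mul_comm]
    · refine (PCMor.pcHom_iff.2 h1).comp ?_
      exact DRingRelPC.PCHom.of_bijective eB.bijective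
  rw [show algebraMap A B = e.symm.toAlgHom.toRingHom.comp (algebraMap A (A ⊗[A₁] B₁)) from
    RingHom.ext fun a => (e.symm.commutes a).symm]
  exact h2.comp (PCMor.Q.of_bijective e.symm.bijective)

end Groth.Agent.PerfMor
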