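import Mathlib
import Groth.Agent.PCMor.Scheme
import Groth.Agent.PerfMor.Ftd
import Groth.Agent.PerfMor.FlatPC
import Groth.Agent.PerfMor.Descent

/-!
# Perfect and pseudo-coherent morphisms: locality, base change, descent
-/

set_option autoImplicit false
set_option linter.style.haveILetI false
set_option backward.isDefEq.respectTransparency.types false

universe u

open CategoryTheory CategoryTheory.Limits AlgebraicGeometry TopologicalSpace

attribute [local instance] HasDerivedCategory.standard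

namespace Groth.Agent.PerfMor

section General

variable (P : MorphismProperty Scheme.{u}) {Q : ∀ {R S : Type u} [CommRing R] [CommRing S], (R →+* S) → Prop}
  [HasRingHomProperty P Q]

include Q

/-- Flat base change for a local property. -/
theorem flatBaseChange (hsrc : RingHom.StableUnderCompositionWithLocalizationAwaySource Q)
    (hpush : ∀ (A A' B B' : Type u) [CommRing A] [CommRing A'] [CommRing B] [CommRing B'] [Algebra A A']
      [Module.Flat A A'] [Algebra A B] [Algebra A' B'] [Algebra B B'] [Algebra A B'] [IsScalarTower A A' B']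
      [IsScalarTower A B B'] [Algebra.IsPushout A A' B B'], Q (algebraMap A B) → Q (algebraMap A' B'))
    {X S X' S' : Scheme.{u}} (f : X ⟶ S) (f' : X' ⟶ S') (g' : X' ⟶ X) (g : S' ⟶ S)
    [Flat g] (hc : IsPullback g' f' f g) (hf : P f) : P f' := by
  refine (HasRingHomProperty.iff_exists_appLE (P := P) hsrc).2 fun x => ?_
  obtain ⟨V, hV, hxV, -⟩ := exists_isAffineOpen_mem_and_subset (x := g (f' x)) (U := (⊤ : S.Opens)) trivial
  obtain ⟨V', hV', hxV', hV'V⟩ := exists_isAffineOpen_mem_and_subset (x := f' x) (U := g ⁻¹ᵁ V) hxV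
  have hfx : g' x ∈ f ⁻¹ᵁ V := by
    show f (g' x) ∈ V
    rw [← Scheme.Hom.comp_apply, hc.w, Scheme.Hom.comp_apply]
    exact hxV
  obtain ⟨U, hU, hxU, hUV⟩ := exists_isAffineOpen_mem_and_subset (x := g' x) (U := f ⁻¹ᵁ V) hfx
  let U' : X'.Opens := g' ⁻¹ᵁ U ⊓ f' ⁻¹ᵁ V'
  let a := g'.resLE U U' inf_le_left
  let b := f'.resLE V' U' inf_le_right
  let c := f.resLE V U hUV
  let d := g.resLE V V' hV'V
  have hw : a ≫ c = b ≫ d := by
    rw [← cancel_mono V.ι]
    simp [a, b, c, d, hc.w]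
  have hpb : IsPullback a b c d := by
    refine ⟨⟨hw⟩, ⟨PullbackCone.IsLimit.mk hw (fun s => ?_) (fun s => ?_) (fun s => ?_) (fun s m hm₁ hm₂ => ?_)⟩⟩
    · refine IsOpenImmersion.lift U'.ι (hc.lift (s.fst ≫ U.ι) (s.snd ≫ V'.ι) ?_) ?_
      · have := congrArg (· ≫ V.ι) s.condition
        simpa [c, d] using this
      · rw [Scheme.Opens.range_ι]
        rintro _ ⟨y, rfl⟩
        refine ⟨?_, ?_⟩
        · show g' ((hc.lift _ _ _) y) ∈ U
          rw [← Scheme.Hom.comp_apply, hc.lift_fst, Scheme.Hom.comp_apply]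
          exact (s.fst y).2
        · show f' ((hc.lift _ _ _) y) ∈ V'
          rw [← Scheme.Hom.comp_apply, hc.lift_snd, Scheme.Hom.comp_apply]
          exact (s.snd y).2
    · rw [← cancel_mono U.ι]
      simp [a]
    · rw [← cancel_mono V'.ι]
      simp [b]
    · rw [← cancel_mono U'.ι, IsOpenImmersion.lift_fac]
      apply hc.hom_ext
      · rw [IsPullback.lift_fst, ← hm₁]
        simp [a]
      · rw [IsPullback.lift_snd, ← hm₂]
        simp [b]
  haveI : IsAffine U.toScheme := hU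
  haveI : IsAffine V.toScheme := hV
  haveI : IsAffine V'.toScheme := hV'
  haveI : IsAffineHom d := isAffineHom_of_isAffine d
  haveI hU' : IsAffine U'.toScheme := IsAffine.of_isPullback hpb
  refine ⟨⟨V', hV'⟩, ⟨U', hU'⟩, ⟨hxU, hxV'⟩, inf_le_right, ?_⟩
  haveI : (RingHom.toMorphismProperty Q).RespectsIso :=
    RingHom.toMorphismProperty_respectsIso_iff.1 (HasRingHomProperty.isLocal_ringHomProperty P).respectsIso
  have hQ : Q c.appTop.hom := by
    have h1 := HasRingHomProperty.appLE P f hf ⟨V, hV⟩ ⟨U, hU⟩ hUV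
    exact (MorphismProperty.arrow_mk_iso_iff (RingHom.toMorphismProperty Q)
      (AlgebraicGeometry.arrowResLEAppIso f V U hUV)).2 h1
  haveI : Flat d := by
    dsimp only [d, Scheme.Hom.resLE]
    infer_instance
  have hd : d.appTop.hom.Flat := HasRingHomProperty.appTop @Flat d inferInstance
  refine (MorphismProperty.arrow_mk_iso_iff (RingHom.toMorphismProperty Q)
    (AlgebraicGeometry.arrowResLEAppIso f' V' U' inf_le_right)).1 ?_
  have hpo := (isPushout_appTop_of_isPullback hpb).flip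
  change Q b.appTop.hom
  algebraize [c.appTop.hom, d.appTop.hom, a.appTop.hom, b.appTop.hom, b.appTop.hom.comp d.appTop.hom]
  haveI : IsScalarTower Γ(V, ⊤) Γ(U, ⊤) Γ(U', ⊤) := .of_algebraMap_eq' congr(($hpo.w).hom)
  haveI : Module.Flat Γ(V, ⊤) Γ(V', ⊤) := hd
  haveI : Algebra.IsPushout Γ(V, ⊤) Γ(V', ⊤) Γ(U, ⊤) Γ(U', ⊤) := CommRingCat.isPushout_iff_isPushout.1 hpo
  exact hpush Γ(V, ⊤) Γ(V', ⊤) Γ(U, ⊤) Γ(U', ⊤) hQ

/-- Descent along fpqc morphisms for a local property. -/
theorem descendsAlong_fpqc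
    (hbc : ∀ {X S X' S' : Scheme.{u}} (f : X ⟶ S) (f' : X' ⟶ S') (g' : X' ⟶ X) (g : S' ⟶ S)
      [Flat g], IsPullback g' f' f g → P f → P f')
    (hdesc : RingHom.CodescendsAlong Q RingHom.FaithfullyFlat) :
    P.DescendsAlong ((@Surjective ⊓ @Flat) ⊓ @QuasiCompact) := by
  apply IsZariskiLocalAtTarget.descendsAlong
  intro R X Y f g hf h
  wlog hX : ∃ T, X = Spec T generalizing X with H
  · have _ : CompactSpace X := by simpa [← quasiCompact_iff_compactSpace f] using hf.2
    obtain ⟨T, p, hsurj, hp, hT⟩ := X.exists_hom_isAffine_of_isZariskiLocalAtSource @IsLocalIso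
    haveI := hsurj
    haveI := hp
    haveI : Surjective f := hf.1.1
    haveI : Flat f := hf.1.2
    haveI : Flat p := IsLocalIso.le_of_isZariskiLocalAtSource @Flat _ _ p hp
    haveI : Flat (T.isoSpec.inv ≫ p) := inferInstance
    refine H ((T.isoSpec.inv ≫ p) ≫ f) ?_ ?_ ⟨_, rfl⟩
    · exact ⟨⟨inferInstance, inferInstance⟩, inferInstance⟩
    · rw [← pullbackRightPullbackFstIso_inv_fst f g _, P.cancel_left_of_respectsIso]
      exact hbc _ _ _ _ (IsPullback.of_hasPullback (T.isoSpec.inv ≫ p) (pullback.fst f g)).flip h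
  obtain ⟨T, rfl⟩ := hX
  obtain ⟨φ, rfl⟩ := Spec.map_surjective f
  wlog hY : ∃ S, Y = Spec S generalizing Y
  · rw [IsZariskiLocalAtSource.iff_of_openCover (P := P) Y.affineCover]
    intro i
    have heq : pullback.fst (Spec.map φ) (Y.affineCover.f i ≫ g) =
        pullback.map _ _ _ _ (𝟙 _) (Y.affineCover.f i) (𝟙 _) (by simp) (by simp) ≫
          pullback.fst (Spec.map φ) g := (pullback.lift_fst _ _ _).symm
    exact this _ (heq ▸ IsZariskiLocalAtSource.comp h _) ⟨_, rfl⟩
  obtain ⟨S, rfl⟩ := hY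
  refine of_pullback_fst_Spec_of_codescendsAlong P ((@Surjective ⊓ @Flat) ⊓ @QuasiCompact)
    hdesc (fun {R S f} hf => ?_) (fun {R S f} => HasRingHomProperty.Spec_iff (P := P)) hf h
  haveI : Surjective (Spec.map f) := hf.1.1
  haveI : Flat (Spec.map f) := hf.1.2
  exact (flat_and_surjective_SpecMap_iff f).1 ⟨inferInstance, inferInstance⟩

end General

/-- Perfect ring maps. -/
def PQ {A B : Type u} [CommRing A] [CommRing B] (φ : A →+* B) : Prop := PCMor.Q φ ∧ Ftd φ

variable {A B C : Type u} [CommRing A] [CommRing B] [CommRing C]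

theorem isPerfectHom_iff [Algebra A B] : MoreMor.IsPerfectHom A B ↔ PQ (algebraMap A B) :=
  and_congr PCMor.isPseudoCoherentHom_iff ftd_algebraMap_iff.symm

theorem PQ.comp {φ : A →+* B} {χ : B →+* C} (h₁ : PQ φ) (h₂ : PQ χ) : PQ (χ.comp φ) :=
  ⟨h₁.1.comp h₂.1, h₁.2.comp h₂.2⟩

theorem PQ.of_bijective {φ : A →+* B} (h : Function.Bijective φ) : PQ φ :=
  ⟨PCMor.Q.of_bijective h, Ftd.of_flat (RingHom.Flat.of_bijective h)⟩

theorem pq_stableUnderComposition : RingHom.StableUnderComposition @PQ :=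
  fun _ _ _ _ _ _ _ _ hf hg => hf.comp hg

theorem pq_holdsForLocalizationAway : RingHom.HoldsForLocalizationAway @PQ := fun R S _ _ _ r _ =>
  ⟨PCMor.holdsForLocalizationAway S r, Ftd.holdsForLocalizationAway S r⟩

theorem pq_source : RingHom.StableUnderCompositionWithLocalizationAwaySource @PQ :=
  (pq_stableUnderComposition.stableUnderCompositionWithLocalizationAway pq_holdsForLocalizationAway).left

theorem pq_propertyIsLocal : RingHom.PropertyIsLocal @PQ :=
  have ht : RingHom.OfLocalizationSpanTarget @PQ := fun _ _ _ _ f s hs h =>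
    ⟨PCMor.ofLocalizationSpanTarget f s hs fun r => (h r).1, Ftd.ofLocalizationSpanTarget f s hs fun r => (h r).2⟩
  ⟨fun _ _ _ _ f r R' S' _ _ _ _ _ _ h =>
      ⟨PCMor.localizationAwayPreserves f r R' S' h.1, Ftd.localizationAwayPreserves f r R' S' h.2⟩,
    ht, ht.ofLocalizationSpan pq_source,
    (pq_stableUnderComposition.stableUnderCompositionWithLocalizationAway pq_holdsForLocalizationAway).right⟩

/-- Perfect morphisms, as a property of morphisms. -/
def PerfP : MorphismProperty Scheme.{u} := fun _ _ f => MoreMor.IsPerfectMor f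

theorem perfMor_iff {X Y : Scheme.{u}} (f : X ⟶ Y) :
    MoreMor.IsPerfectMor f ↔
      ∀ (U : Y.affineOpens) (V : X.affineOpens) (e : V.1 ≤ f ⁻¹ᵁ U.1), PQ (f.appLE U V e).hom := by
  constructor
  · intro h U V e
    letI := (f.appLE U V e).hom.toAlgebra
    exact isPerfectHom_iff.1 (h V.1 U.1 V.2 U.2 e)
  · intro h V U hV hU e
    letI := (f.appLE U V e).hom.toAlgebra
    exact isPerfectHom_iff.2 (h ⟨U, hU⟩ ⟨V, hV⟩ e)

instance : HasRingHomProperty (PerfP.{u}) (fun {_ _ : Type u} [CommRing _] [CommRing _] φ => PQ φ) where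
  isLocal_ringHomProperty := pq_propertyIsLocal
  eq_affineLocally' := by
    ext X Y f
    rw [affineLocally_iff_affineOpens_le]
    exact perfMor_iff f

theorem perfMor_iff_exists {X Y : Scheme.{u}} (f : X ⟶ Y) :
    MoreMor.IsPerfectMor f ↔ ∀ x : X, ∃ (U : Y.affineOpens) (V : X.affineOpens) (_ : x ∈ V.1)
      (e : V.1 ≤ f ⁻¹ᵁ U.1), PQ (f.appLE U V e).hom :=
  HasRingHomProperty.iff_exists_appLE (P := PerfP) pq_source

theorem perfMor_comp {X Y Z : Scheme.{u}} (f : X ⟶ Y) (g : Y ⟶ Z) (hf : MoreMor.IsPerfectMor f)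
    (hg : MoreMor.IsPerfectMor g) : MoreMor.IsPerfectMor (f ≫ g) :=
  (HasRingHomProperty.stableUnderComposition (P := PerfP) pq_stableUnderComposition).comp_mem f g hf hg

theorem pq_of_flat_fp {φ : A →+* B} (h₁ : φ.Flat) (h₂ : φ.FinitePresentation) : PQ φ := by
  algebraize [φ]
  exact ⟨q_of_flat_fp A B, Ftd.of_flat h₁⟩

/-- Flat morphisms locally of finite presentation are perfect. -/
theorem perfMor_of_flat {X S : Scheme.{u}} (f : X ⟶ S) [Flat f] [LocallyOfFinitePresentation f] :
    MoreMor.IsPerfectMor f :=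
  (perfMor_iff f).2 fun U V e => pq_of_flat_fp (HasRingHomProperty.appLE @Flat f inferInstance U V e)
    (HasRingHomProperty.appLE @LocallyOfFinitePresentation f inferInstance U V e)

theorem perfMor_baseChange {X S X' S' : Scheme.{u}} (f : X ⟶ S) (f' : X' ⟶ S') (g' : X' ⟶ X) (g : S' ⟶ S)
    [Flat g] (hc : IsPullback g' f' f g) (hf : MoreMor.IsPerfectMor f) : MoreMor.IsPerfectMor f' :=
  flatBaseChange PerfP pq_source
    (fun A A' B B' _ _ _ _ _ _ _ _ _ _ _ _ _ h =>
      ⟨PCMor.Q.pushout (A := A) (A' := A') (B := B) (B' := B') h.1,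
        Ftd.pushout (A := A) (A' := A') (B := B) (B' := B') h.2⟩) f f' g' g hc hf

theorem perfMor_descend {X S X' S' : Scheme.{u}} (f : X ⟶ S) (f' : X' ⟶ S') (g' : X' ⟶ X) (g : S' ⟶ S)
    [Flat g] [Surjective g] [QuasiCompact g] (hc : IsPullback g' f' f g) (hf : MoreMor.IsPerfectMor f') :
    MoreMor.IsPerfectMor f := by
  haveI := descendsAlong_fpqc PerfP.{u} (fun f f' g' g _ => perfMor_baseChange f f' g' g) (by
    intro R S R' S' _ _ _ _ _ _ _ _ _ _ _ _ hQ h
    haveI := RingHom.faithfullyFlat_algebraMap_iff.1 hQ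
    haveI : Algebra.IsPushout R R' S S' := Algebra.IsPushout.symm inferInstance
    exact ⟨q_of_pushout (A := R) (A' := R') (B := S) (B' := S') h.1,
      Ftd.of_pushout (A := R) (A' := R') (B := S) (B' := S') h.2⟩)
  exact MorphismProperty.of_isPullback_of_descendsAlong (P := PerfP) (Q := (@Surjective ⊓ @Flat) ⊓ @QuasiCompact)
    hc.flip ⟨⟨inferInstance, inferInstance⟩, inferInstance⟩ hf

theorem pcMor_descend {X S X' S' : Scheme.{u}} (f : X ⟶ S) (f' : X' ⟶ S') (g' : X' ⟶ X) (g : S' ⟶ S)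
    [Flat g] [Surjective g] [QuasiCompact g] (hc : IsPullback g' f' f g) (hf : MoreMor.IsPseudoCoherentMor f') :
    MoreMor.IsPseudoCoherentMor f := by
  haveI := descendsAlong_fpqc PCMor.PCP.{u} (fun f f' g' g _ => PCMor.baseChange f f' g' g) (by
    intro R S R' S' _ _ _ _ _ _ _ _ _ _ _ _ hQ h
    haveI := RingHom.faithfullyFlat_algebraMap_iff.1 hQ
    haveI : Algebra.IsPushout R R' S S' := Algebra.IsPushout.symm inferInstance
    exact q_of_pushout (A := R) (A' := R') (B := S) (B' := S') h)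
  exact MorphismProperty.of_isPullback_of_descendsAlong (P := PCMor.PCP) (Q := (@Surjective ⊓ @Flat) ⊓ @QuasiCompact)
    hc.flip ⟨⟨inferInstance, inferInstance⟩, inferInstance⟩ hf

end Groth.Agent.PerfMor
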