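import Mathlib
import Groth.Agent.PerfMor.Scheme
import Groth.Agent.PerfMor.Descent
import Groth.Agent.PerfMor.FlatPC
import Groth.Agent.SrcDescent.Algebra
import Groth.Agent.SrcDescent.SchemeFppf
import Groth.Agent.S9432

/-!
# Pseudo-coherence descends along fppf covers of the source
-/

set_option autoImplicit false
set_option linter.style.haveILetI false
set_option backward.isDefEq.respectTransparency.types false
set_option maxHeartbeats 800000

universe u

open CategoryTheory CategoryTheory.Limits TensorProduct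

attribute [local instance] HasDerivedCategory.standard

namespace Groth.Agent.PerfMor

/-- A flat finitely presented algebra is faithfully flat over a neighbourhood of a point of the image. -/
theorem exists_ff_away (P D : Type u) [CommRing P] [CommRing D] [Algebra P D] [Module.Flat P D]
    [Algebra.FinitePresentation P D] (Q : PrimeSpectrum D) :
    ∃ h : P, h ∉ Q.asIdeal.comap (algebraMap P D) ∧
      Module.FaithfullyFlat (Localization.Away h) (Localization.Away h ⊗[P] D) := by
  have ho : IsOpen (Set.range (PrimeSpectrum.comap (algebraMap P D))) :=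
    PrimeSpectrum.isOpenMap_comap_of_hasGoingDown_of_finitePresentation.isOpen_range
  obtain ⟨_, ⟨_, ⟨h, rfl⟩, rfl⟩, hQ, hsub⟩ :=
    PrimeSpectrum.isBasis_basic_opens.exists_subset_of_mem_open (Set.mem_range_self Q) ho
  refine ⟨h, hQ, Module.FaithfullyFlat.of_comap_surjective ?_⟩
  refine Groth.Agent.SrcDescent.comap_surjective_includeLeft fun q => hsub ?_
  have := Set.mem_range_self (f := PrimeSpectrum.comap (algebraMap P (Localization.Away h))) q
  rwa [PrimeSpectrum.localization_away_comap_range (Localization.Away h) h] at this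

/-- Descent along a finite projective faithfully flat algebra. -/
theorem q_of_finite_projective {A B T : Type u} [CommRing A] [CommRing B] [CommRing T] [Algebra B T]
    [Module.Finite B T] [Module.Projective B T] [Module.FaithfullyFlat B T] (φ : A →+* B) (hφ : φ.FiniteType)
    (h : PCMor.Q ((algebraMap B T).comp φ)) : PCMor.Q φ := by
  obtain ⟨n, π, hπC, hπ⟩ := PCMor.exists_surjective hφ
  let P := MvPolynomial (Fin n) A
  letI : Algebra P B := π.toAlgebra
  letI : Algebra P T := ((algebraMap B T).comp π).toAlgebra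
  haveI : IsScalarTower P B T := .of_algebraMap_eq fun _ => rfl
  haveI : Module.Finite P B := Module.Finite.of_surjective (Algebra.linearMap P B) hπ
  haveI : Module.Finite P T := Module.Finite.trans B T
  have hA : PCMor.Q (algebraMap A P) := q_of_flat_fp A P
  have hPT : DRing.IsPseudoCoherentModule' P T := PCMor.q_iff_of_finite.1 (hA.cancel (by
    show PCMor.Q (((algebraMap B T).comp π).comp MvPolynomial.C)
    rw [RingHom.comp_assoc, hπC]
    exact h))
  -- a retraction of `B → T`
  obtain ⟨ψ, hψ⟩ : ∃ ψ : T →ₗ[B] B, ψ 1 = 1 := by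
    obtain ⟨s, hs⟩ := Module.projective_def.1 (inferInstance : Module.Projective B T)
    let I : Ideal B := Ideal.span (Set.range fun t : T => s 1 t)
    have hI : I = ⊤ := by
      by_contra hne
      obtain ⟨m, hm, hIm⟩ := Ideal.exists_le_maximal I hne
      have h1 : (1 : T) ∈ m • (⊤ : Submodule B T) := by
        rw [← hs 1, Finsupp.linearCombination_apply, Finsupp.sum]
        exact Submodule.sum_mem _ fun t _ =>
          Submodule.smul_mem_smul (hIm (Ideal.subset_span ⟨t, rfl⟩)) trivial
      refine Module.FaithfullyFlat.submodule_ne_top (M := T) hm (eq_top_iff.2 fun t _ => ?_)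
      have h2 := Submodule.mem_map_of_mem (f := LinearMap.mulLeft B t) h1
      rw [Submodule.map_smul''] at h2
      simpa using Submodule.smul_mono le_rfl le_top h2
    have h1 : (1 : B) ∈ I := hI ▸ trivial
    obtain ⟨c, hc⟩ := (Finsupp.mem_span_range_iff_exists_finsupp (R := B)).1 h1
    refine ⟨c.sum fun t b => b • ((Finsupp.lapply t).comp s), ?_⟩
    rw [← hc]
    simp [Finsupp.sum, LinearMap.sum_apply]
  let r : T →ₗ[P] B := ψ.restrictScalars P
  let i : B →ₗ[P] T := (Algebra.linearMap B T).restrictScalars P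
  have hri : Function.LeftInverse r i := fun b => by
    show ψ (algebraMap B T b) = b
    rw [Algebra.algebraMap_eq_smul_one, map_smul, hψ, smul_eq_mul, mul_one]
  let e : T ≃ₗ[P] B × LinearMap.ker r :=
    { toFun := fun t => (r t, ⟨t - i (r t), by simp [hri (r t)]⟩)
      invFun := fun p => i p.1 + p.2.1
      map_add' := fun x y => by ext <;> simp [map_add]; abel
      map_smul' := fun c x => by ext <;> simp [smul_sub]
      left_inv := fun t => by simp
      right_inv := fun p => by
        have h2 : r p.2.1 = 0 := LinearMap.mem_ker.1 p.2.2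
        ext <;> simp [hri p.1, h2] }
  let X := ModuleCat.of P B
  let Y := ModuleCat.of P (LinearMap.ker r)
  let F := DerivedCategory.singleFunctor (ModuleCat.{u} P) 0
  haveI : PreservesBinaryBiproduct X Y F := Limits.preservesBinaryBiproduct_of_preservesBiproduct F X Y
  have hB : DRing.IsPseudoCoherentModule' P B :=
    (H9Misc.DRingPC.summand' (K := F.obj X) (L := F.obj Y) (H9Misc.DRingPC.of_iso'
      (F.mapIso (e.toModuleIso ≪≫ (ModuleCat.biprodIsoProd X Y).symm) ≪≫ F.mapBiprod X Y) hPT)).1
  exact ⟨n, π, hπC, hπ, PCMor.pcHom_iff.2 hB⟩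

/-- A standard étale algebra lifts along a surjection to a flat finitely presented algebra. -/
theorem exists_flat_lift {P B C : Type u} [CommRing P] [CommRing B] [Nontrivial B] [CommRing C] [Algebra P B]
    [Algebra B C] [Algebra P C] [IsScalarTower P B C] [Algebra.IsStandardEtale B C]
    (hπ : Function.Surjective (algebraMap P B)) :
    ∃ (D : Type u) (_ : CommRing D) (_ : Algebra P D) (_ : Module.Flat P D) (_ : Algebra.FinitePresentation P D),
      Nonempty (D →ₐ[P] C) ∧
        ∀ (E : Type u) [CommRing E] (β : B →+* E) (ε : D →+* E),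
          ε.comp (algebraMap P D) = β.comp (algebraMap P B) → ∃ γ : C →+* E, γ.comp (algebraMap B C) = β := by
  obtain ⟨S⟩ := Algebra.IsStandardEtale.nonempty_standardEtalePresentation (R := B) (S := C)
  obtain ⟨f, hfmap, -, hf⟩ := Polynomial.lifts_and_degree_eq_and_monic
    ((Polynomial.mem_lifts _).2 (Polynomial.map_surjective _ hπ S.P.f)) S.P.monic_f
  obtain ⟨g, hgmap⟩ := Polynomial.map_surjective (algebraMap P B) hπ S.P.g
  haveI : Module.Free P (AdjoinRoot f) := hf.free_adjoinRoot
  haveI : Algebra.FinitePresentation P (AdjoinRoot f) := by infer_instance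
  let D := Localization.Away (AdjoinRoot.mk f g)
  haveI : Algebra.FinitePresentation (AdjoinRoot f) D :=
    IsLocalization.Away.finitePresentation (AdjoinRoot.mk f g)
  haveI : Algebra.FinitePresentation P D := Algebra.FinitePresentation.trans P (AdjoinRoot f) D
  haveI : Module.Flat (AdjoinRoot f) D := IsLocalization.flat D (Submonoid.powers (AdjoinRoot.mk f g))
  haveI : Module.Flat P D := Module.Flat.trans P (AdjoinRoot f) D
  refine ⟨D, inferInstance, inferInstance, inferInstance, inferInstance, ?_, ?_⟩
  · have hev : ∀ q : Polynomial P, Polynomial.aeval S.x q = Polynomial.aeval S.x (q.map (algebraMap P B)) :=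
      fun q => (Polynomial.aeval_map_algebraMap B S.x q).symm
    let δ₀ : AdjoinRoot f →ₐ[P] C := AdjoinRoot.liftAlgHom f (Algebra.ofId P C) S.x (by
      rw [Algebra.toRingHom_ofId, ← Polynomial.aeval_def, hev, hfmap]
      exact S.hasMap.1)
    have hδ₀ : IsUnit (δ₀ (AdjoinRoot.mk f g)) := by
      rw [show δ₀ (AdjoinRoot.mk f g) = Polynomial.aeval S.x g from AdjoinRoot.liftAlgHom_mk .., hev, hgmap]
      exact S.hasMap.2
    exact ⟨IsLocalization.Away.liftAlgHom (AdjoinRoot.mk f g) (f := δ₀) hδ₀⟩
  · intro E _ β ε₀ hε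
    letI := β.toAlgebra
    letI : Algebra P E := (β.comp (algebraMap P B)).toAlgebra
    haveI : IsScalarTower P B E := IsScalarTower.of_algebraMap_eq fun _ => rfl
    let ε : D →ₐ[P] E := ⟨ε₀, fun p => RingHom.congr_fun hε p⟩
    let y : E := ε (algebraMap (AdjoinRoot f) D (AdjoinRoot.root f))
    have hy : ∀ q : Polynomial P, Polynomial.aeval y (q.map (algebraMap P B)) =
        ε (algebraMap (AdjoinRoot f) D (AdjoinRoot.mk f q)) := fun q => by
      rw [Polynomial.aeval_map_algebraMap, Polynomial.aeval_algHom_apply, Polynomial.aeval_algebraMap_apply,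
        AdjoinRoot.aeval_eq]
    have hym : S.P.HasMap y := by
      constructor
      · rw [← hfmap, hy, AdjoinRoot.mk_self, map_zero, map_zero]
      · rw [← hgmap, hy]
        exact (IsLocalization.Away.algebraMap_isUnit (AdjoinRoot.mk f g)).map ε
    exact ⟨((S.P.lift y hym).comp S.equivRing.toAlgHom).toRingHom,
      RingHom.ext fun z => ((S.P.lift y hym).comp S.equivRing.toAlgHom).commutes z⟩

/-- A surjection which becomes pseudo-coherent after a faithfully flat base change. -/
theorem q_of_lift {A Pb Bb Db : Type u} [CommRing A] [CommRing Pb] [CommRing Bb] [CommRing Db] [Algebra Pb Bb]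
    [Algebra Pb Db] [Module.FaithfullyFlat Pb Db] [Algebra.FinitePresentation Pb Db] (σ : A →+* Pb)
    (hσ : PCMor.Q σ) (h : PCMor.Q ((algebraMap Pb (Db ⊗[Pb] Bb)).comp σ)) :
    PCMor.Q ((algebraMap Pb Bb).comp σ) := by
  letI : Algebra Bb (Db ⊗[Pb] Bb) := Algebra.TensorProduct.rightAlgebra
  refine hσ.comp (q_of_pushout (A := Pb) (A' := Db) (B := Bb) (B' := Db ⊗[Pb] Bb) ?_)
  refine (hσ.comp (q_of_flat_fp Pb Db)).cancel ?_
  rwa [← RingHom.comp_assoc, ← IsScalarTower.algebraMap_eq Pb Db (Db ⊗[Pb] Bb)]

/-- A flat base change of rings. -/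
theorem q_base_flat_fp {Pb Bb Db : Type u} [CommRing Pb] [CommRing Bb] [CommRing Db] [Algebra Pb Bb]
    [Algebra Pb Db] [Module.Flat Pb Db] [Algebra.FinitePresentation Pb Db] :
    PCMor.Q (Algebra.TensorProduct.includeRight (R := Pb) (A := Db) (B := Bb)).toRingHom := by
  have h1 := q_of_flat_fp Bb (Bb ⊗[Pb] Db)
  have h2 := h1.comp (PCMor.Q.of_bijective (φ := (Algebra.TensorProduct.comm Pb Bb Db).toRingEquiv.toRingHom)
    (Algebra.TensorProduct.comm Pb Bb Db).bijective)
  convert h2 using 1
  ext z
  rfl

/-- The descent step near a point: `B_b` is pseudo-coherent over `A` once a flat algebra receives `C`. -/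
theorem q_of_lift_step {A B C Pb Bb Db : Type u} [CommRing A] [CommRing B] [CommRing C] [CommRing Pb] [CommRing Bb]
    [CommRing Db] [Algebra B C] [Module.Flat B C] [Algebra.FinitePresentation B C] [Algebra Pb Bb] [Algebra Pb Db]
    [Module.FaithfullyFlat Pb Db] [Algebra.FinitePresentation Pb Db] (σ : A →+* Pb) (β : B →+* Bb) (φ : A →+* B)
    (hσ : PCMor.Q σ) (hβ : PCMor.Q β) (hφ : (algebraMap Pb Bb).comp σ = β.comp φ)
    (h : PCMor.Q ((algebraMap B C).comp φ))
    (hγ : ∃ γ : C →+* Db ⊗[Pb] Bb, γ.comp (algebraMap B C) =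
      (Algebra.TensorProduct.includeRight (R := Pb) (A := Db) (B := Bb)).toRingHom.comp β) :
    PCMor.Q (β.comp φ) := by
  obtain ⟨γ, hγ⟩ := hγ
  rw [← hφ]
  refine q_of_lift (Db := Db) σ hσ ?_
  have hCE : PCMor.Q γ := (q_of_flat_fp B C).cancel (by
    rw [hγ]
    exact hβ.comp q_base_flat_fp)
  have he : (algebraMap Pb (Db ⊗[Pb] Bb)).comp σ = γ.comp ((algebraMap B C).comp φ) := by
    rw [← RingHom.comp_assoc, hγ, RingHom.comp_assoc, ← hφ]
    ext x
    exact ((Algebra.TensorProduct.includeRight (R := Pb) (A := Db) (B := Bb)).commutes (σ x)).symm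
  rw [he]
  exact h.comp hCE

/-- Descent along a standard étale algebra, near a point of the image. -/
theorem exists_away_q_of_standardEtale {A B C : Type u} [CommRing A] [CommRing B] [CommRing C] [Algebra B C]
    [Algebra.IsStandardEtale B C] (φ : A →+* B) (hφ : φ.FiniteType) (h : PCMor.Q ((algebraMap B C).comp φ))
    (Q : PrimeSpectrum C) :
    ∃ b : B, b ∉ Q.asIdeal.comap (algebraMap B C) ∧ PCMor.Q ((algebraMap B (Localization.Away b)).comp φ) := by
  haveI : Nontrivial B := (Ideal.Quotient.mk (Q.asIdeal.comap (algebraMap B C))).domain_nontrivial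
  obtain ⟨n, π, hπC, hπ⟩ := PCMor.exists_surjective hφ
  let P := MvPolynomial (Fin n) A
  letI : Algebra P B := π.toAlgebra
  letI : Algebra P C := ((algebraMap B C).comp π).toAlgebra
  haveI : IsScalarTower P B C := .of_algebraMap_eq fun _ => rfl
  obtain ⟨D, _, _, _, _, ⟨δ⟩, huniv⟩ := exists_flat_lift (P := P) (B := B) (C := C) hπ
  obtain ⟨b, hb, hff⟩ := exists_ff_away P D ⟨Q.asIdeal.comap δ.toRingHom, Ideal.comap_isPrime _ _⟩
  refine ⟨π b, fun hm => hb ?_, ?_⟩
  · show δ (algebraMap P D b) ∈ Q.asIdeal
    rw [δ.commutes]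
    exact hm
  let Bb := Localization.Away (π b)
  letI : Algebra (Localization.Away b) Bb := (IsLocalization.Away.map (Localization.Away b) Bb π b).toAlgebra
  haveI := hff
  have hmap : (algebraMap (Localization.Away b) Bb).comp (algebraMap P (Localization.Away b)) =
      (algebraMap B Bb).comp π := by
    rw [RingHom.algebraMap_toAlgebra, IsLocalization.Away.map, IsLocalization.map_comp]
  refine q_of_lift_step (Db := Localization.Away b ⊗[P] D) _ _ φ
    ((q_of_flat_fp A P).comp (PCMor.Q.away b)) (PCMor.Q.away (π b)) ?_ h ?_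
  · rw [← RingHom.comp_assoc, hmap]
    exact RingHom.ext fun x => congrArg (algebraMap B Bb) (RingHom.congr_fun hπC x)
  refine huniv _ _ ((Algebra.TensorProduct.includeLeftRingHom (R := Localization.Away b)
    (A := Localization.Away b ⊗[P] D) (B := Bb)).comp
      (Algebra.TensorProduct.includeRight (R := P) (A := Localization.Away b) (B := D)).toRingHom) ?_
  refine RingHom.ext fun p => ?_
  have h1 : Algebra.TensorProduct.includeRight (R := P) (A := Localization.Away b) (B := D) (algebraMap P D p) =
      algebraMap (Localization.Away b) (Localization.Away b ⊗[P] D) (algebraMap P (Localization.Away b) p) := by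
    rw [AlgHom.commutes]
    exact IsScalarTower.algebraMap_apply P (Localization.Away b) _ p
  show Algebra.TensorProduct.includeLeftRingHom (Algebra.TensorProduct.includeRight (R := P)
    (A := Localization.Away b) (algebraMap P D p)) = _
  rw [h1]
  refine Eq.trans ?_ (congrArg (Algebra.TensorProduct.includeRight (R := Localization.Away b)
    (A := Localization.Away b ⊗[P] D) (B := Bb)) (RingHom.congr_fun hmap p))
  exact ((Algebra.TensorProduct.includeRight (R := Localization.Away b)
    (A := Localization.Away b ⊗[P] D) (B := Bb)).commutes _).symm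

/-- Descent of pseudo-coherent ring maps along fppf covers of the source. -/
theorem q_of_comp_fppf {A B B' : Type u} [CommRing A] [CommRing B] [CommRing B'] (φ : A →+* B) (ψ : B →+* B')
    (hff : ψ.FaithfullyFlat) (hfp : ψ.FinitePresentation) (h : PCMor.Q (ψ.comp φ)) : PCMor.Q φ := by
  have hφ : φ.FiniteType := Groth.Agent.SrcDescent.finiteType_of_precomp_fppf φ ψ hff hfp h.finiteType
  letI := ψ.toAlgebra
  haveI : Module.FaithfullyFlat B B' := hff
  haveI : Algebra.FinitePresentation B B' := hfp
  -- replace `B'` by a quasi-finite cover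
  obtain ⟨S, _, _, hqf, hft, hSff, hSfp, ⟨σ⟩⟩ := Groth.Agent.S9432.result B B'
  have hS : PCMor.Q ((algebraMap B S).comp φ) := by
    rw [← σ.comp_algebraMap, RingHom.comp_assoc]
    exact h.comp ((q_of_flat_fp B B').cancel (by rw [σ.comp_algebraMap]; exact q_of_flat_fp B S))
  clear h σ hff hfp
  have key : ∀ p : PrimeSpectrum B, ∃ b : B, b ∉ p.asIdeal ∧
      PCMor.Q ((algebraMap B (Localization.Away b)).comp φ) := by
    intro p
    obtain ⟨q, hq⟩ := PrimeSpectrum.comap_surjective_of_faithfullyFlat (A := B) (B := S) p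
    haveI : q.asIdeal.LiesOver p.asIdeal := ⟨(congrArg PrimeSpectrum.asIdeal hq).symm⟩
    obtain ⟨R', _, _, _, P', _, hP'p, e, he, M, _, hMP, -, heM, -, hfin, -⟩ :=
      Algebra.exists_etale_isIdempotentElem_forall_liesOver_eq p.asIdeal q.asIdeal
    let T := Localization.Away e
    haveI : Module.Finite R' T := hfin
    haveI : Algebra.FinitePresentation (R' ⊗[B] S) T := IsLocalization.Away.finitePresentation e
    haveI : Algebra.FinitePresentation R' T := Algebra.FinitePresentation.trans R' (R' ⊗[B] S) T
    haveI : Module.Flat (R' ⊗[B] S) T := IsLocalization.flat T (Submonoid.powers e)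
    haveI : Module.Flat R' T := Module.Flat.trans R' (R' ⊗[B] S) T
    haveI hdisj : (M.map (algebraMap (R' ⊗[B] S) T)).IsPrime :=
      IsLocalization.isPrime_of_isPrime_disjoint (Submonoid.powers e) _ _ ‹_›
        ((Ideal.disjoint_powers_iff_notMem_of_isPrime _).2 heM)
    obtain ⟨r, hr, hrff⟩ := exists_ff_away R' T ⟨_, hdisj⟩
    let R₁ := Localization.Away r
    let T₁ := R₁ ⊗[R'] T
    haveI : Module.FaithfullyFlat R₁ T₁ := hrff
    haveI : Algebra.FinitePresentation R₁ T₁ := inferInstance
    haveI : Module.Finite R₁ T₁ := inferInstance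
    haveI : Module.FinitePresentation R₁ T₁ := Module.FinitePresentation.of_finite_of_finitePresentation R₁ T₁
    haveI : Module.Projective R₁ T₁ := Module.Flat.projective_of_finitePresentation
    haveI : Algebra.Etale R' R₁ := Algebra.Etale.of_isLocalizationAway r
    haveI : Algebra.Etale B R₁ := Algebra.Etale.comp B R' R₁
    letI : Algebra B T₁ := ((algebraMap R₁ T₁).comp (algebraMap B R₁)).toAlgebra
    let j : S →+* T₁ := (Algebra.TensorProduct.includeRight (R := R') (A := R₁) (B := T)).toRingHom.comp
      ((algebraMap (R' ⊗[B] S) T).comp (Algebra.TensorProduct.includeRight (R := B) (A := R') (B := S)).toRingHom)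
    have hj : j.comp (algebraMap B S) = algebraMap B T₁ := RingHom.ext fun x => by
      have h1 : Algebra.TensorProduct.includeRight (R := B) (A := R') (B := S) (algebraMap B S x) =
          algebraMap R' (R' ⊗[B] S) (algebraMap B R' x) := by
        rw [AlgHom.commutes]
        rfl
      show Algebra.TensorProduct.includeRight (R := R') (A := R₁) (B := T) (algebraMap (R' ⊗[B] S) T
        (Algebra.TensorProduct.includeRight (R := B) (A := R') (algebraMap B S x))) = _
      rw [h1, ← IsScalarTower.algebraMap_apply R' (R' ⊗[B] S) T, AlgHom.commutes,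
        IsScalarTower.algebraMap_apply R' R₁ T₁, ← IsScalarTower.algebraMap_apply B R' R₁]
      rfl
    have hqj : PCMor.Q j := (q_of_flat_fp B S).cancel (by
      rw [hj]
      exact (q_of_flat_fp B R₁).comp (q_of_flat_fp R₁ T₁))
    have hT₁ : PCMor.Q ((algebraMap R₁ T₁).comp ((algebraMap B R₁).comp φ)) := by
      rw [← RingHom.comp_assoc, show (algebraMap R₁ T₁).comp (algebraMap B R₁) = algebraMap B T₁ from rfl,
        ← hj, RingHom.comp_assoc]
      exact hS.comp hqj
    have hR₁ : PCMor.Q ((algebraMap B R₁).comp φ) := q_of_finite_projective _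
      ((RingHom.finiteType_algebraMap.2 inferInstance).comp hφ) hT₁
    have hrP : r ∉ P' := fun hm => hr (by
      have h3 : Ideal.comap (algebraMap R' (R' ⊗[B] S)) M = P' := (hMP.over).symm
      rw [IsScalarTower.algebraMap_eq R' (R' ⊗[B] S) T, ← Ideal.comap_comap]
      exact Ideal.comap_mono Ideal.le_comap_map (h3.symm ▸ hm))
    let P₁ := P'.map (algebraMap R' R₁)
    haveI : P₁.IsPrime := IsLocalization.isPrime_of_isPrime_disjoint (Submonoid.powers r) _ _ ‹_›
      ((Ideal.disjoint_powers_iff_notMem_of_isPrime _).2 hrP)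
    obtain ⟨g, hg, hstd⟩ := Algebra.IsEtaleAt.exists_isStandardEtale (R := B) P₁
    haveI := hstd
    let C := Localization.Away g
    haveI : (P₁.map (algebraMap R₁ C)).IsPrime := IsLocalization.isPrime_of_isPrime_disjoint (Submonoid.powers g) _ _
      ‹_› ((Ideal.disjoint_powers_iff_notMem_of_isPrime _).2 hg)
    have hC : PCMor.Q ((algebraMap B C).comp φ) := by
      rw [IsScalarTower.algebraMap_eq B R₁ C, RingHom.comp_assoc]
      exact hR₁.comp (PCMor.Q.away g)
    obtain ⟨b, hb, hbQ⟩ := exists_away_q_of_standardEtale φ hφ hC ⟨P₁.map (algebraMap R₁ C), ‹_›⟩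
    refine ⟨b, fun hm => hb ?_, hbQ⟩
    have h4 : algebraMap B R' b ∈ P' := by
      have := hP'p.over ▸ hm
      exact this
    rw [Ideal.mem_comap, IsScalarTower.algebraMap_apply B R₁ C, IsScalarTower.algebraMap_apply B R' R₁]
    exact Ideal.mem_map_of_mem _ (Ideal.mem_map_of_mem _ h4)
  choose b hb hbQ using key
  refine PCMor.ofLocalizationSpanTarget φ (Set.range b) ?_ fun ⟨_, p, hp⟩ => hp ▸ hbQ p
  by_contra hne
  obtain ⟨m, hm, hle⟩ := Ideal.exists_le_maximal _ hne
  exact hb ⟨m, hm.isPrime⟩ (hle (Ideal.subset_span ⟨_, rfl⟩))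

theorem pq_of_comp_fppf {A B B' : Type u} [CommRing A] [CommRing B] [CommRing B'] (φ : A →+* B) (ψ : B →+* B')
    (hff : ψ.FaithfullyFlat) (hfp : ψ.FinitePresentation) (h : PQ (ψ.comp φ)) : PQ φ :=
  ⟨q_of_comp_fppf φ ψ hff hfp h.1, Ftd.of_comp_faithfullyFlat hff h.2⟩

end Groth.Agent.PerfMor
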