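import Mathlib
import Groth.Agent.PerfMor.Scheme
import Groth.Agent.KRegLib.Perfect
import Groth.Agent.KRegLib.Mor

/-!
# Perfect morphisms over a smooth base
-/

set_option autoImplicit false
set_option linter.style.haveILetI false
set_option backward.isDefEq.respectTransparency.types false

universe u

open CategoryTheory CategoryTheory.Limits AlgebraicGeometry TopologicalSpace TensorProduct

attribute [local instance] HasDerivedCategory.standard

namespace Groth.Agent.PerfMor

theorem pq_of_comp_smooth {A B C : Type u} [CommRing A] [CommRing B] [CommRing C] [Algebra A B] [Algebra B C]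
    [Algebra A C] [IsScalarTower A B C] [Algebra.Smooth A B] (h : PQ (algebraMap A C)) :
    PQ (algebraMap B C) := by
  haveI : Module.Flat A B := inferInstance
  refine ⟨(q_of_flat_fp A B).cancel (χ := algebraMap B C) (by rw [← IsScalarTower.algebraMap_eq]; exact h.1), ?_⟩
  let D := C ⊗[A] B
  letI : Algebra B D := Algebra.TensorProduct.rightAlgebra
  haveI : Algebra.IsPushout A B C D := Algebra.IsPushout.symm inferInstance
  have h1 : Ftd (algebraMap B D) := Ftd.pushout (A := A) (A' := B) (B := C) (B' := D) h.2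
  let m : D →ₐ[C] C := Algebra.TensorProduct.lift (AlgHom.id C C) (IsScalarTower.toAlgHom A B C) fun _ _ => .all _ _
  letI : Algebra D C := m.toRingHom.toAlgebra
  haveI : IsScalarTower C D C := .of_algebraMap_eq fun c => (m.commutes c).symm
  have h2 : Ftd (algebraMap D C) := ftd_algebraMap_iff.2 (KRegLib.isPerfectHom_of_isLCI
    (KRegLib.isLCI_of_comp_smooth (A := C) (B := D) (R := C) (KRegLib.isLCI_of_smooth (A := C) (C := C)))).2
  have e : algebraMap B C = (algebraMap D C).comp (algebraMap B D) := RingHom.ext fun b => by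
    show algebraMap B C b = m ((1 : C) ⊗ₜ[A] b)
    exact ((Algebra.TensorProduct.lift_tmul (AlgHom.id C C) (IsScalarTower.toAlgHom A B C) (fun _ _ => .all _ _) 1 b).trans (one_mul _)).symm
  rw [e]
  exact h1.comp h2

/-- A morphism into a smooth scheme is perfect if the composite is. -/
theorem perfMor_of_comp_smooth {X Y S : Scheme.{u}} (f : X ⟶ Y) (g : Y ⟶ S) [Smooth g]
    (h : MoreMor.IsPerfectMor (f ≫ g)) : MoreMor.IsPerfectMor f := by
  refine (perfMor_iff_exists f).2 fun x => ?_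
  obtain ⟨V, hV, hxV, -⟩ := exists_isAffineOpen_mem_and_subset (U := (⊤ : S.Opens)) (x := g (f x)) trivial
  obtain ⟨W, hW, hxW, hWV⟩ := exists_isAffineOpen_mem_and_subset (U := g ⁻¹ᵁ V) (x := f x) hxV
  obtain ⟨U, hU, hxU, hUW⟩ := exists_isAffineOpen_mem_and_subset (U := f ⁻¹ᵁ W) (x := x) hxW
  refine ⟨⟨W, hW⟩, ⟨U, hU⟩, hxU, hUW, ?_⟩
  letI : Algebra Γ(S, V) Γ(Y, W) := (g.appLE V W hWV).hom.toAlgebra
  haveI : Algebra.Smooth Γ(S, V) Γ(Y, W) := g.smooth_appLE hV hW hWV
  letI : Algebra Γ(Y, W) Γ(X, U) := (f.appLE W U hUW).hom.toAlgebra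
  have e : U ≤ (f ≫ g) ⁻¹ᵁ V := fun y hy => hWV (hUW hy)
  letI : Algebra Γ(S, V) Γ(X, U) := ((f ≫ g).appLE V U e).hom.toAlgebra
  haveI : IsScalarTower Γ(S, V) Γ(Y, W) Γ(X, U) := .of_algebraMap_eq' (by
    change ((f ≫ g).appLE V U e).hom = (f.appLE W U hUW).hom.comp (g.appLE V W hWV).hom
    rw [← CommRingCat.hom_comp, Scheme.Hom.appLE_comp_appLE])
  exact pq_of_comp_smooth (A := Γ(S, V)) (B := Γ(Y, W)) (C := Γ(X, U))
    ((perfMor_iff (f ≫ g)).1 h ⟨V, hV⟩ ⟨U, hU⟩ e)

end Groth.Agent.PerfMor
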