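import Mathlib
import Groth.Agent.PerfMor.Scheme
import Groth.Agent.FlatModel.Open
import Groth.Agent.H9Misc.DRingPCModule

/-!
# Tor dimension spreads out for pseudo-coherent modules; perfect morphisms through stalks
-/

set_option autoImplicit false
set_option linter.style.haveILetI false
set_option backward.isDefEq.respectTransparency.types false

universe u

open CategoryTheory CategoryTheory.Limits AlgebraicGeometry TopologicalSpace
open Groth.Agent.H9Misc

attribute [local instance] HasDerivedCategory.standard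

namespace Groth.Agent.PerfMor

theorem pc'_ker {P : Type u} [CommRing P] {n : ℕ} {M : Type u} [AddCommGroup M] [Module P M]
    (π : (Fin n → P) →ₗ[P] M) (hπ : Function.Surjective π) (h : DRing.IsPseudoCoherentModule' P M) :
    DRing.IsPseudoCoherentModule' P (LinearMap.ker π) := by
  let S : ShortComplex (ModuleCat.{u} P) := ShortComplex.mk (ModuleCat.ofHom (LinearMap.ker π).subtype)
    (ModuleCat.ofHom π) (by ext x; exact x.2)
  have hS : S.ShortExact :=
    { exact := (ShortComplex.moduleCat_exact_iff S).2 fun x hx => ⟨⟨x, hx⟩, rfl⟩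
      mono_f := (ModuleCat.mono_iff_injective _).2 Subtype.val_injective
      epi_g := (ModuleCat.epi_iff_surjective _).2 hπ }
  exact DRingPC.obj₁' (T := hS.singleTriangle) hS.singleTriangle_distinguished
    ((DRingPC.pc'_iff _).2 fun m => Triage.NoethPC.pc_of_free (A := P) (Fin n → P) m) h

theorem torDimLE_first {A : Type u} [CommRing A] {K F M : Type u} [AddCommGroup K] [Module A K] [AddCommGroup F]
    [Module A F] [Module.Flat A F] [AddCommGroup M] [Module A M] (i : K →ₗ[A] F) (q : F →ₗ[A] M)
    (hi : Function.Injective i) (hq : Function.Surjective q) (he : Function.Exact i q) {d : ℕ}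
    (h : DRing.HasTorDimLE A (d + 1) M) : DRing.HasTorDimLE A d K :=
  DiagSmooth.torDimLE_of_equiv ((LinearEquiv.ofInjective i hi).trans
    (LinearEquiv.ofEq _ _ (LinearMap.exact_iff.1 he).symm)).symm
    (torDimLE_of_torExactFrom (Synt29.torExactFrom_ker q hq (Synt29.torExactFrom_of_hasTorDimLE h)))

/-- Tor dimension over the base spreads out. -/
theorem exists_torDimLE_nhd {A P : Type u} [CommRing A] [CommRing P] [Algebra A P] [Algebra.FinitePresentation A P]
    [Module.Flat A P] : ∀ (d : ℕ) (M : Type u) [AddCommGroup M] [Module P M] [Module A M] [IsScalarTower A P M],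
      DRing.IsPseudoCoherentModule' P M → ∀ (q : Ideal P) [q.IsPrime],
        DRing.HasTorDimLE A d (LocalizedModule q.primeCompl M) →
        ∃ g ∉ q, DRing.HasTorDimLE A d (LocalizedModule (Submonoid.powers g) M) := by
  intro d
  induction d with
  | zero =>
    intro M _ _ _ _ hM q _ h
    haveI := DRingPC.finitePresentation_of_pc ((DRingPC.pc'_iff _).1 hM (-1))
    obtain ⟨g, hg, hW⟩ := FlatModel.exists_flat_nhd (R := A) M q
      ((DRingTor.torDimLE_zero_iff (ModuleCat.of A (LocalizedModule q.primeCompl M))).1 h)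
    exact ⟨g, hg, (DRingTor.torDimLE_zero_iff (ModuleCat.of A (LocalizedModule (Submonoid.powers g) M))).2
      (hW _ (Submonoid.mem_powers g))⟩
  | succ d ih =>
    intro M _ _ _ _ hM q _ h
    haveI := DRingPC.finite_of_pc ((DRingPC.pc'_iff _).1 hM 0)
    obtain ⟨n, π, hπ⟩ := Module.Finite.exists_fin' P M
    let K := LinearMap.ker π
    let i : K →ₗ[P] (Fin n → P) := K.subtype
    have he : Function.Exact i π := LinearMap.exact_subtype_ker_map π
    let iW := fun W : Submonoid P => ((LocalizedModule.map W i).restrictScalars P).restrictScalars A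
    let πW := fun W : Submonoid P => ((LocalizedModule.map W π).restrictScalars P).restrictScalars A
    have hinj : ∀ W, Function.Injective (iW W) := fun W =>
      LocalizedModule.map_injective W i Subtype.val_injective
    have hsur : ∀ W, Function.Surjective (πW W) := fun W => LocalizedModule.map_surjective W π hπ
    have hex : ∀ W, Function.Exact (iW W) (πW W) := fun W => LocalizedModule.map_exact W i π he
    haveI hflat : ∀ W : Submonoid P, Module.Flat A (LocalizedModule W (Fin n → P)) := fun W => by
      haveI : Module.Flat P (Localization W) := IsLocalization.flat (Localization W) W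
      haveI : Module.Flat P (LocalizedModule W (Fin n → P)) :=
        Module.Flat.of_linearEquiv ((LocalizedModule.equivTensorProduct W (Fin n → P)).restrictScalars P)
      exact Module.Flat.trans A P _
    have hK : DRing.HasTorDimLE A d (LocalizedModule q.primeCompl K) :=
      torDimLE_first (K := LocalizedModule q.primeCompl K) (F := LocalizedModule q.primeCompl (Fin n → P))
        (iW q.primeCompl) (πW _) (hinj _) (hsur _) (hex _) h
    obtain ⟨g, hg, hgK⟩ := ih K (pc'_ker π hπ hM) q hK
    exact ⟨g, hg, torDimLE_of_exact (K := LocalizedModule (Submonoid.powers g) K) (iW (Submonoid.powers g)) (πW _) (hinj _) (hsur _) (hex _) hgK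
      (torDimLE_mono (Nat.zero_le _)
        ((DRingTor.torDimLE_zero_iff (ModuleCat.of A (LocalizedModule (Submonoid.powers g) (Fin n → P)))).2
          (hflat _)))⟩

/-- A pseudo-coherent ring map of finite tor dimension at every prime has finite tor dimension. -/
theorem ftd_of_primes {A B : Type u} [CommRing A] [CommRing B] [Algebra A B] (hQ : PCMor.Q (algebraMap A B))
    (h : ∀ (q : Ideal B) [q.IsPrime], Ftd (algebraMap A (Localization.AtPrime q))) : Ftd (algebraMap A B) := by
  obtain ⟨n, ψ, hψC, hψ, hpc⟩ := hQ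
  let P := MvPolynomial (Fin n) A
  letI := ψ.toAlgebra
  haveI : IsScalarTower A P B := .of_algebraMap_eq fun a => (RingHom.congr_fun hψC a).symm
  have key : ∀ q : PrimeSpectrum B, ∃ g : B, g ∉ q.asIdeal ∧ DRing.HasFiniteTorDim A (Localization.Away g) := fun q => by
    obtain ⟨d, hd⟩ := ftd_algebraMap_iff.1 (h q.asIdeal)
    let 𝔮 : Ideal P := q.asIdeal.comap (algebraMap P B)
    haveI : IsLocalization (Algebra.algebraMapSubmonoid B 𝔮.primeCompl) (Localization.AtPrime q.asIdeal) := by
      rw [show Algebra.algebraMapSubmonoid B 𝔮.primeCompl = q.asIdeal.primeCompl from Submonoid.ext fun b =>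
        ⟨fun ⟨p, hp, hb⟩ => hb ▸ hp, fun hb => ⟨(hψ b).choose, fun h' =>
          hb ((hψ b).choose_spec ▸ (Ideal.mem_comap.1 h')), (hψ b).choose_spec⟩⟩]
      infer_instance
    haveI : IsLocalizedModule 𝔮.primeCompl
        (IsScalarTower.toAlgHom P B (Localization.AtPrime q.asIdeal)).toLinearMap :=
      isLocalizedModule_iff_isLocalization.2 inferInstance
    obtain ⟨g, hg, hgd⟩ := exists_torDimLE_nhd (A := A) d B (PCMor.pcHom_iff.1 hpc) 𝔮
      (DiagSmooth.torDimLE_of_equiv ((IsLocalizedModule.iso 𝔮.primeCompl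
        (IsScalarTower.toAlgHom P B (Localization.AtPrime q.asIdeal)).toLinearMap).restrictScalars A).symm hd)
    refine ⟨algebraMap P B g, hg, d, ?_⟩
    haveI : IsLocalization (Algebra.algebraMapSubmonoid B (Submonoid.powers g))
        (Localization.Away (algebraMap P B g)) := by
      rw [show Algebra.algebraMapSubmonoid B (Submonoid.powers g) = Submonoid.powers (algebraMap P B g) from
        Submonoid.map_powers _ _]
      infer_instance
    haveI : IsLocalizedModule (Submonoid.powers g)
        (IsScalarTower.toAlgHom P B (Localization.Away (algebraMap P B g))).toLinearMap :=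
      isLocalizedModule_iff_isLocalization.2 inferInstance
    exact DiagSmooth.torDimLE_of_equiv ((IsLocalizedModule.iso (Submonoid.powers g)
      (IsScalarTower.toAlgHom P B (Localization.Away (algebraMap P B g))).toLinearMap).restrictScalars A) hgd
  let s : Set B := {g | DRing.HasFiniteTorDim A (Localization.Away g)}
  have hs : Ideal.span s = ⊤ := by
    by_contra hne
    obtain ⟨m, hm, hle⟩ := Ideal.exists_le_maximal _ hne
    obtain ⟨g, hg, hgd⟩ := key ⟨m, hm.isPrime⟩
    exact hg (hle (Ideal.subset_span hgd))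
  refine Ftd.ofLocalizationSpanTarget _ s hs fun g => ?_
  rw [← IsScalarTower.algebraMap_eq]
  exact ftd_algebraMap_iff.2 g.2

/-- Finite tor dimension over a localization of the base. -/
theorem ftd_of_localization {A Aₚ C : Type u} [CommRing A] [CommRing Aₚ] [CommRing C] [Algebra A Aₚ] (W : Submonoid A)
    [IsLocalization W Aₚ] (φ : Aₚ →+* C) (h : Ftd (φ.comp (algebraMap A Aₚ))) : Ftd φ := by
  obtain ⟨d, hd⟩ := h
  letI := φ.toAlgebra
  letI := (φ.comp (algebraMap A Aₚ)).toAlgebra
  haveI : IsScalarTower A Aₚ C := .of_algebraMap_eq fun _ => rfl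
  haveI : Module.Flat A Aₚ := IsLocalization.flat Aₚ W
  exact ⟨d, DiagSmooth.torDimLE_of_equiv (IsLocalization.moduleLid W Aₚ C) (torDimLE_baseChange A Aₚ d C hd)⟩

theorem germ_appLE_stalkMap {X S : Scheme.{u}} (f : X ⟶ S) {U : X.Opens} {V : S.Opens} (e : U ≤ f ⁻¹ᵁ V) {x : X}
    (hx : x ∈ U) : (X.presheaf.germ U x hx).hom.comp (f.appLE V U e).hom =
      (f.stalkMap x).hom.comp (S.presheaf.germ V (f x) (e hx)).hom := by
  rw [← CommRingCat.hom_comp, ← CommRingCat.hom_comp, Scheme.Hom.germ_stalkMap, Scheme.Hom.appLE, Category.assoc,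
    TopCat.Presheaf.germ_res]

/-- A pseudo-coherent morphism is perfect iff it has finite tor dimension on stalks. -/
theorem perfMor_iff_stalks {X S : Scheme.{u}} (f : X ⟶ S) (hf : MoreMor.IsPseudoCoherentMor f) :
    MoreMor.IsPerfectMor f ↔ ∀ x : X, Ftd (f.stalkMap x).hom := by
  constructor
  · intro h x
    obtain ⟨V, hV, hxV, -⟩ := exists_isAffineOpen_mem_and_subset (U := (⊤ : S.Opens)) (x := f x) trivial
    obtain ⟨U, hU, hxU, hUV⟩ := exists_isAffineOpen_mem_and_subset (U := f ⁻¹ᵁ V) (x := x) hxV
    letI := (S.presheaf.germ V (f x) (hUV hxU)).hom.toAlgebra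
    letI := (X.presheaf.germ U x hxU).hom.toAlgebra
    haveI : IsLocalization.AtPrime (S.presheaf.stalk (f x)) (hV.primeIdealOf ⟨f x, hUV hxU⟩).asIdeal :=
      hV.isLocalization_stalk ⟨f x, hUV hxU⟩
    haveI : IsLocalization.AtPrime (X.presheaf.stalk x) (hU.primeIdealOf ⟨x, hxU⟩).asIdeal :=
      hU.isLocalization_stalk ⟨x, hxU⟩
    refine ftd_of_localization (hV.primeIdealOf ⟨f x, hUV hxU⟩).asIdeal.primeCompl (f.stalkMap x).hom ?_
    show Ftd ((f.stalkMap x).hom.comp (S.presheaf.germ V (f x) (hUV hxU)).hom)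
    rw [← germ_appLE_stalkMap f hUV hxU]
    exact ((perfMor_iff f).1 h ⟨V, hV⟩ ⟨U, hU⟩ hUV).2.comp (Ftd.of_flat (RingHom.flat_algebraMap_iff.2
      (IsLocalization.flat (X.presheaf.stalk x) (hU.primeIdealOf ⟨x, hxU⟩).asIdeal.primeCompl)))
  · intro h
    refine (perfMor_iff f).2 fun V U e => ?_
    letI := (f.appLE V U e).hom.toAlgebra
    have hQ : PCMor.Q (f.appLE V.1 U.1 e).hom := (PCMor.pcMor_iff f).1 hf V U e
    refine ⟨hQ, ftd_of_primes (A := Γ(S, V.1)) (B := Γ(X, U.1)) hQ fun q _ => ?_⟩
    let x : X := U.2.fromSpec ⟨q, inferInstance⟩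
    have hxU : x ∈ U.1 := U.2.range_fromSpec.le ⟨_, rfl⟩
    letI : Algebra Γ(X, U.1) (X.presheaf.stalk x) := (X.presheaf.germ U.1 x hxU).hom.toAlgebra
    haveI : IsLocalization.AtPrime (X.presheaf.stalk x) q := U.2.isLocalization_stalk' ⟨q, inferInstance⟩ hxU
    let ε := IsLocalization.algEquiv q.primeCompl (X.presheaf.stalk x) (Localization.AtPrime q)
    letI := (S.presheaf.germ V.1 (f x) (e hxU)).hom.toAlgebra
    haveI : IsLocalization.AtPrime (S.presheaf.stalk (f x)) (V.2.primeIdealOf ⟨f x, e hxU⟩).asIdeal :=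
      V.2.isLocalization_stalk ⟨f x, e hxU⟩
    have h1 : Ftd ((X.presheaf.germ U.1 x hxU).hom.comp (f.appLE V.1 U.1 e).hom) := by
      rw [germ_appLE_stalkMap f e hxU]
      exact (Ftd.of_flat (RingHom.flat_algebraMap_iff.2
        (IsLocalization.flat (S.presheaf.stalk (f x)) (V.2.primeIdealOf ⟨f x, e hxU⟩).asIdeal.primeCompl))).comp (h x)
    rw [IsScalarTower.algebraMap_eq Γ(S, V.1) Γ(X, U.1) (Localization.AtPrime q),
      show algebraMap Γ(X, U.1) (Localization.AtPrime q) =
        ε.toRingEquiv.toRingHom.comp (X.presheaf.germ U.1 x hxU).hom from RingHom.ext fun b => (ε.commutes b).symm,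
      RingHom.comp_assoc]
    exact h1.comp (Ftd.of_flat (RingHom.Flat.of_bijective ε.bijective))

end Groth.Agent.PerfMor
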